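import Cfsg.Agent.Lib.Fischer.FromCent.Distance
import Cfsg.Agent.S5361

/-!
# A simple group with a class of type M(22)
-/

set_option autoImplicit false
set_option linter.unusedSectionVars false

namespace Cfsg.Lib.Fischer.FromCent

open Module Cfsg Cfsg.Lib.Fischer Cfsg.Lib.Fischer.Relations Cfsg.Lib.Linear.Herm Cfsg.Agent.S1631
  Cfsg.Lib.Fischer.RadicalAbelian Cfsg.Lib.Fischer.Fi22Recog

variable {H : Type} [Group H] [Finite H] {F : Type} [Field F] [Fintype F]
  {G : Type*} [Group G] {D : Set G} {D₀ : Set H} {a₀ : H} {hF : Fintype.card F = 2 ^ 2}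

namespace Datum

variable [Finite G] (S : Datum D D₀ a₀ hF)
include S

theorem exists_noncommute_perp {a b : G} (ha : a ∈ D) (hb : b ∈ perp D a) :
    ∃ e ∈ perp D a, ¬ Commute b e := by
  obtain ⟨U⟩ := S.exists_udata ha
  exact U.exists_noncommute (fourField hF) (hB_isSymm hF 6) (hB_nondegenerate hF 6)
    (by rw [finrank_fin_fun]; norm_num) hb

/-- The members are conjugate under the subgroup they generate. -/
theorem conj_closure {a : G} (ha : a ∈ D) {b : G} (hb : b ∈ D) :
    ∃ n ∈ Subgroup.closure D, n * a * n⁻¹ = b := by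
  set N := Subgroup.closure D
  have hC : ∀ y, Subgroup.closure (perp D y) ≤ N := fun y => Subgroup.closure_mono fun z hz => hz.1
  have h := S.linked ha hb
  induction h with
  | refl => exact ⟨1, N.one_mem, by simp⟩
  | @tail u v _ huv ih =>
    obtain ⟨huv, hu⟩ := huv
    obtain ⟨n, hn, rfl⟩ := ih hu
    obtain ⟨y, hy⟩ : (perp D (n * a * n⁻¹) ∩ perp D v).Nonempty := by
      by_contra h
      rw [Set.not_nonempty_iff_eq_empty] at h
      have := S.card_common hu huv
      rw [h, Set.ncard_empty] at this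
      omega
    obtain ⟨g, hg, hgv⟩ := S.perp_transitive hy.1.1 (S.perp_symm hu hy.1) (S.perp_symm hb hy.2)
    exact ⟨g * n, N.mul_mem (hC y hg) hn, by rw [← hgv]; group⟩

/-- The members generate when their neighbours generate their centralisers. -/
theorem gen (hfull : ∀ a ∈ D, ∀ g : G, Commute g a → g ∈ Subgroup.closure D) : Subgroup.closure D = ⊤ := by
  obtain ⟨a, ha⟩ := S.ne
  set N := Subgroup.closure D
  rw [eq_top_iff]
  intro g _
  obtain ⟨n, hn, hng⟩ := S.conj_closure ha (S.conj g a ha)
  have h : Commute (n⁻¹ * g) a := by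
    refine mul_inv_eq_iff_eq_mul.1 ?_
    calc n⁻¹ * g * a * (n⁻¹ * g)⁻¹ = n⁻¹ * (g * a * g⁻¹) * n := by group
      _ = a := by rw [← hng]; group
  have := N.mul_mem hn (hfull a ha _ h)
  rwa [mul_inv_cancel_left] at this

theorem center_bot : Subgroup.center G = ⊥ := by
  obtain ⟨a, ha⟩ := S.ne
  rw [eq_bot_iff]
  intro z hz
  rcases S.eq_or_eq ha (Subgroup.mem_center_iff.1 hz a).symm (fun y _ => (Subgroup.mem_center_iff.1 hz y).symm) with
    h | h
  · rw [h]; exact Subgroup.one_mem _
  · subst h
    obtain ⟨b, hb⟩ := S.perp_nonempty ha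
    obtain ⟨g, hg⟩ := S.trans z ha b hb.1
    rw [Subgroup.mem_center_iff.1 hz g, mul_inv_cancel_right] at hg
    exact absurd hg.symm hb.2.1

theorem isThreeTranspositionClass {d : G} (hD : D = conjugatesOf d) (hgen : Subgroup.closure D = ⊤) :
    Cfsg.IsThreeTranspositionClass D := by
  refine ⟨⟨fun a ha => orderOf_eq_prime (by rw [pow_two, S.sq a ha]) (S.ne_one a ha),
    fun a ha b hb => S.three_trans ha hb⟩, ⟨d, ?_, hD⟩, hgen⟩
  rw [hD]
  exact mem_conjugatesOf_self

theorem exists_commuting : ∃ a ∈ D, ∃ b ∈ D, a ≠ b ∧ Commute a b := by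
  obtain ⟨a, ha⟩ := S.ne
  obtain ⟨b, hb⟩ := S.perp_nonempty ha
  exact ⟨a, ha, b, hb.1, hb.2.1.symm, hb.2.2⟩

theorem simple (hgen : Subgroup.closure D = ⊤) : IsSimpleGroup G := by
  obtain ⟨a, ha⟩ := S.ne
  have : Nontrivial G := ⟨⟨a, 1, S.ne_one a ha⟩⟩
  refine ⟨fun N hN => ?_⟩
  haveI := hN
  set A := Subgroup.closure (perp D a) with hAdef
  have haA : a ∈ A := S.self_mem_closure ha
  have hAa : ∀ x ∈ A, Commute x a := by
    have hle : A ≤ Subgroup.centralizer ({a} : Set G) :=
      (Subgroup.closure_le _).2 fun y hy => Subgroup.mem_centralizer_singleton_iff.2 hy.2.2.eq.symm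
    exact fun x hx => Subgroup.mem_centralizer_singleton_iff.1 (hle hx)
  have hnorm : ∀ g, Commute g a → ∀ x ∈ A, g * x * g⁻¹ ∈ A := by
    intro g hg x hx
    induction hx using Subgroup.closure_induction with
    | mem y hy =>
      refine Subgroup.subset_closure ?_
      have := S.perp_conj (g := g) hy
      rwa [hg.eq, mul_inv_cancel_right] at this
    | one => simp
    | mul u v _ _ hu hv => simpa [mul_assoc] using mul_mem hu hv
    | inv u _ hu => simpa [mul_assoc] using inv_mem hu
  have htop : a ∈ N → N = ⊤ := fun h => by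
    rw [eq_top_iff, ← hgen, Subgroup.closure_le]
    intro b hb
    obtain ⟨g, rfl⟩ := S.trans a ha b hb
    exact hN.conj_mem a h g
  have hcentral : ∀ z : A, z ∈ Subgroup.center A → (z : G) = 1 ∨ (z : G) = a := fun z hz =>
    S.eq_or_eq ha (hAa z z.2) fun y hy =>
      (congrArg Subtype.val (Subgroup.mem_center_iff.1 hz ⟨y, Subgroup.subset_closure hy⟩)).symm
  by_cases haN : a ∈ N
  · exact Or.inr (htop haN)
  refine Or.inl ?_
  have hmeet : ∀ x ∈ N, Commute x a → x = 1 := by
    intro x hx hxa
    refine (S.eq_or_eq ha hxa fun y hy => ?_).resolve_right fun e => haN (e ▸ hx)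
    have hyA : y ∈ A := Subgroup.subset_closure hy
    have hm : x * y * x⁻¹ * y⁻¹ ∈ A := mul_mem (hnorm x hxa y hyA) (inv_mem hyA)
    have hmN : x * y * x⁻¹ * y⁻¹ ∈ N := by
      rw [mul_assoc x, mul_assoc x]; exact mul_mem hx (hN.conj_mem _ (inv_mem hx) y)
    rcases normal_cases (S.closure_perp_qs ha) (Subgroup.Normal.subgroupOf hN A) with h | h
    · refine mul_inv_eq_iff_eq_mul.1 (mul_inv_eq_one.1 ?_)
      exact (hcentral ⟨_, hm⟩ (h (Subgroup.mem_subgroupOf.2 hmN))).resolve_right fun e => haN (e ▸ hmN)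
    · exact absurd (Subgroup.subgroupOf_eq_top.1 h haA) haN
  have hinv : ∀ b ∈ D, ∀ x ∈ N, b * x * b = x⁻¹ := by
    intro b hb x hx
    have hbi := S.inv_eq hb
    have hfix : ∀ y ∈ N, Commute y b → y = 1 := by
      intro y hy hyb
      obtain ⟨g, hg⟩ := S.trans b hb a ha
      have h := hmeet (g * y * g⁻¹) (hN.conj_mem y hy g) (hg ▸ (Commute.conj_iff g).2 hyb)
      exact conj_eq_one_iff.1 h
    let φ : ↥N →* ↥N :=
      MonoidHom.mk' (fun y => ⟨b * y * b, by simpa [hbi] using hN.conj_mem _ y.2 b⟩) fun u v => Subtype.ext (by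
        show b * ((u : G) * v) * b = b * u * b * (b * v * b)
        calc b * ((u : G) * v) * b = b * u * 1 * v * b := by simp only [mul_assoc, one_mul]
          _ = _ := by rw [← S.sq b hb]; simp only [mul_assoc])
    have h2 : Function.Involutive φ := fun y => Subtype.ext (by
      show b * (b * (y : G) * b) * b = y
      calc b * (b * (y : G) * b) * b = (b * b) * y * (b * b) := by simp only [mul_assoc]
        _ = y := by rw [S.sq b hb, one_mul, mul_one])
    have hf : MonoidHom.FixedPointFree φ := fun y hy => Subtype.ext (hfix y y.2 (by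
      have h : b * (y : G) * b = y := congrArg Subtype.val hy
      show (y : G) * b = b * y
      conv_lhs => rw [← h]
      rw [mul_assoc (b * (y : G)) b b, S.sq b hb, mul_one]))
    exact congrArg Subtype.val (congrFun (MonoidHom.FixedPointFree.coe_eq_inv_of_involutive hf h2) ⟨x, hx⟩)
  obtain ⟨b, hb⟩ := S.perp_nonempty ha
  obtain ⟨e, he, hbe⟩ := S.exists_noncommute_perp ha hb
  have hab : ∀ x ∈ N, Commute (a * b) x := fun x hx => by
    have h1 := hinv a ha _ (N.inv_mem hx)
    have h2 := hinv b hb.1 x hx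
    rw [inv_inv] at h1
    refine mul_inv_eq_iff_eq_mul.1 ?_
    rw [mul_inv_rev, S.inv_eq ha, S.inv_eq hb.1, show a * b * x * (b * a) = a * (b * x * b) * a by
      simp only [mul_assoc], h2, h1]
  have hKn : (Subgroup.centralizer (N : Set G)).Normal := inferInstance
  have habC : a * b ∈ A := mul_mem haA (Subgroup.subset_closure hb)
  have hae : a ∈ Subgroup.centralizer (N : Set G) := by
    rcases normal_cases (S.closure_perp_qs ha) (Subgroup.Normal.subgroupOf hKn A) with h | h
    · exfalso
      have hz : (⟨a * b, habC⟩ : A) ∈ Subgroup.center A := h (Subgroup.mem_subgroupOf.2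
        (Subgroup.mem_centralizer_iff.2 fun x hx => ((hab x hx).eq).symm))
      rcases hcentral _ hz with h1 | h1
      · exact S.mul_ne_one ha hb.2.1.symm h1
      · exact S.ne_one b hb.1 (mul_eq_left.1 h1)
    · exact Subgroup.subgroupOf_eq_top.1 h haA
  rw [eq_bot_iff]
  intro x hx
  exact Subgroup.mem_bot.2 (hmeet x hx (Subgroup.mem_centralizer_iff.1 hae x hx))

theorem primitive {d : G} (hD : D = conjugatesOf d) (hgen : Subgroup.closure D = ⊤) :
    Cfsg.IsPrimitiveUnderConj D := by
  have hsimple := S.simple hgen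
  have hZ := S.center_bot
  have hperf : commutator G = ⊤ := by
    refine ((commutator G).normal_of_characteristic.eq_bot_or_eq_top).resolve_left fun h => ?_
    obtain ⟨a, ha⟩ := S.ne
    rw [commutator_def, Subgroup.commutator_eq_bot_iff_le_centralizer, Subgroup.coe_top,
      Subgroup.centralizer_univ, hZ] at h
    exact S.ne_one a ha (Subgroup.mem_bot.1 (h (Subgroup.mem_top a)))
  have hsimp' : IsSimpleGroup ↥(commutator G) := by
    rw [hperf]
    exact (Subgroup.topEquiv (G := G)).isSimpleGroup
  exact (Cfsg.Agent.S5361.result (S.isThreeTranspositionClass hD hgen) hZ S.exists_commuting).1.1 hsimp'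

/-- The class is of type M(22) in the sense of the coordinates. -/
theorem m22 {d : G} (hD : D = conjugatesOf d) (hgen : Subgroup.closure D = ⊤) : M22 D hF := by
  have hcls := S.isThreeTranspositionClass hD hgen
  have hT := trans_of_class hcls
  have hZ := S.center_bot
  have hprim := S.primitive hD hgen
  refine ⟨isFischer_of_primitive hT hprim S.exists_commuting hZ, hprim, hZ, ?_, fun a ha => S.exists_udata ha⟩
  exact sep_of_core hT hprim.2.1 (core_le_center_of_primitive hT hprim S.exists_commuting).1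

end Datum

end Cfsg.Lib.Fischer.FromCent
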