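import Cfsg.Agent.Lib.Fischer.FromCent.Setup

/-!
# A group with a transposition centraliser of Fi22 is Fi22
-/

set_option autoImplicit false
set_option linter.unusedSectionVars false

namespace Cfsg.Lib.Fischer.FromCent

open Cfsg Cfsg.Lib.Fischer

theorem closure_quot_congr {M N : Type*} [Group M] [Group N] (e : M ≃* N) {S : Set M} {S' : Set N} (h : e '' S = S') :
    Nonempty (↥(Subgroup.closure S') ⧸ Subgroup.center ↥(Subgroup.closure S') ≃*
      ↥(Subgroup.closure S) ⧸ Subgroup.center ↥(Subgroup.closure S)) := by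
  subst h
  have hm : (Subgroup.closure S).map (e : M →* N) = Subgroup.closure (e '' S) := MonoidHom.map_closure _ _
  let f : ↥(Subgroup.closure (e '' S)) ≃* ↥(Subgroup.closure S) :=
    ((e.subgroupMap (Subgroup.closure S)).trans (MulEquiv.subgroupCongr hm)).symm
  exact ⟨QuotientGroup.congr _ _ f (Fi22Type.map_center_equiv f)⟩

theorem image_perp {M N : Type*} [Group M] [Group N] (e : M ≃* N) (D : Set M) (x : M) :
    e '' {y : M | y ∈ D ∧ y ≠ x ∧ Commute x y} = {y : N | y ∈ e '' D ∧ y ≠ e x ∧ Commute (e x) y} := by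
  ext y
  constructor
  · rintro ⟨z, ⟨h1, h2, h3⟩, rfl⟩
    exact ⟨⟨z, h1, rfl⟩, fun h => h2 (e.injective h), h3.map e⟩
  · rintro ⟨⟨z, h1, rfl⟩, h2, h3⟩
    refine ⟨z, ⟨h1, fun h => h2 (by rw [h]), ?_⟩, rfl⟩
    have := h3.map e.symm
    simpa using this

/-- The type carries over along an isomorphism. -/
theorem isOfTypeM22_map {M N : Type*} [Group M] [Group N] (e : M ≃* N) {D : Set M}
    (h : Cfsg.IsOfTypeM22 M D) : Cfsg.IsOfTypeM22 N (e '' D) := by
  obtain ⟨hZ, d, hd, c, hc, hdc, ⟨F, i1, i2, hF, ⟨f⟩⟩, c₃, hc₃, Q, hnd, hdet, ⟨g⟩⟩ := h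
  refine ⟨?_, e d, ⟨d, hd, rfl⟩, e c, ⟨c, hc, rfl⟩, fun h => hdc (by simpa using h.map e.symm),
    ⟨F, i1, i2, hF, ?_⟩, c₃, hc₃, Q, hnd, hdet, ?_⟩
  · rw [← Fi22Type.map_center_equiv e, hZ, Subgroup.map_bot]
  · obtain ⟨q⟩ := closure_quot_congr e (image_perp e D d)
    exact ⟨q.trans f⟩
  · obtain ⟨q⟩ := closure_quot_congr e (S := {y : M | y ∈ D ∧ y ≠ d ∧ Commute d y} ∩ {y : M | y ∈ D ∧ y ≠ c ∧ Commute c y})
      (by rw [Set.image_inter e.injective, image_perp, image_perp])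
    exact ⟨q.trans g⟩

variable {G : Type*} [Group G] [Finite G]

/-- Fi22 from the centraliser of a transposition, with the class. -/
theorem main (d : G) (hd : orderOf d = 2)
    (hq : Cfsg.IsQuasisimple ↥(Subgroup.centralizer ({d} : Set G)))
    [((Subgroup.zpowers d).subgroupOf (Subgroup.centralizer ({d} : Set G))).Normal]
    (K : Type) [Field K] [Fintype K] (hK : Fintype.card K = 4)
    (e : ↥(Subgroup.centralizer ({d} : Set G)) ⧸ (Subgroup.zpowers d).subgroupOf (Subgroup.centralizer ({d} : Set G))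
      ≃* Cfsg.PSU 6 K 2)
    (hnwc : ∃ g : G, g * d * g⁻¹ ∈ Subgroup.centralizer ({d} : Set G) ∧ g * d * g⁻¹ ≠ d) :
    Cfsg.IsThreeTranspositionClass (conjugatesOf d) ∧ Cfsg.IsOfTypeM22 G (conjugatesOf d) ∧
      Nonempty (G ≃* Cfsg.Spor.Fi22) := by
  obtain ⟨D₀, a₀, F, _, _, _, hF, S⟩ := exists_datum d hd hq K hK e hnwc
  have hgen : Subgroup.closure (conjugatesOf d) = ⊤ := S.gen (full_of_datum S fun a ha => by
    obtain ⟨g, rfl⟩ := isConj_iff.1 ha
    refine Cfsg.Lib.Core.quasisimple_congr hq (((MulAut.conj g).subgroupMap _).trans (MulEquiv.subgroupCongr ?_))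
    rw [Subgroup.map_equiv_eq_comap_symm]
    ext x
    rw [Subgroup.mem_comap, Subgroup.mem_centralizer_singleton_iff, Subgroup.mem_centralizer_singleton_iff]
    show Commute (g⁻¹ * x * g) d ↔ Commute x (g * d * g⁻¹)
    rw [← Commute.conj_iff (a := g⁻¹ * x * g) g, show g * (g⁻¹ * x * g) * g⁻¹ = x by group])
  have hcls := S.isThreeTranspositionClass (d := d) rfl hgen
  obtain ⟨f, hf⟩ := Fi22Recog.exists_iso (S.m22 (d := d) rfl hgen) (mem_conjugatesOf_self : d ∈ conjugatesOf d)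
  refine ⟨hcls, ?_, ⟨f.symm⟩⟩
  obtain ⟨D₁, hD₁, -, -, htype⟩ := Fi22Type.fi22_type
  have himg : f '' D₁ = conjugatesOf d := by
    subst hD₁
    ext x
    constructor
    · rintro ⟨z, hz, rfl⟩
      obtain ⟨c, rfl⟩ := isConj_iff.1 hz
      exact isConj_iff.2 ⟨f c, by rw [← hf, ← map_inv, ← map_mul, ← map_mul]; rfl⟩
    · intro hx
      obtain ⟨c, rfl⟩ := isConj_iff.1 hx
      exact ⟨f.symm c * Fi22Recog.fiA * (f.symm c)⁻¹, isConj_iff.2 ⟨_, rfl⟩, by simp [hf]⟩
  rw [← himg]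
  exact isOfTypeM22_map f htype

end Cfsg.Lib.Fischer.FromCent
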