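import Cfsg.Agent.Lib.Fischer.FromCent.Pairs

/-!
# The commuting graph is connected

Otherwise an elementary abelian group free of members and of pairs could be enlarged without end.
-/

set_option autoImplicit false
set_option linter.unusedSectionVars false

namespace Cfsg.Lib.Fischer.FromCent

open Cfsg Cfsg.Lib.Fischer

variable {H : Type} [Group H] [Finite H] {F : Type} [Field F] [Fintype F]
  {G : Type*} [Group G] {D : Set G} {D₀ : Set H} {a₀ : H} {hF : Fintype.card F = 2 ^ 2}

/-- Joined by a path of commuting members. -/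
def Linked (D : Set G) (a b : G) : Prop := Relation.ReflTransGen (fun u v => v ∈ perp D u ∧ u ∈ D) a b

/-- A product of two different commuting members. -/
def IsPair (D : Set G) (p : G) : Prop := ∃ r ∈ D, ∃ s ∈ perp D r, p = r * s

theorem Linked.symm {a b : G} (h : Linked D a b) : Linked D b a := by
  induction h with
  | refl => exact Relation.ReflTransGen.refl
  | tail _ huv ih =>
    exact Relation.ReflTransGen.head ⟨⟨huv.2, huv.1.2.1.symm, huv.1.2.2.symm⟩, huv.1.1⟩ ih

theorem linked_of_commute {a b : G} (ha : a ∈ D) (hb : b ∈ D) (h : Commute a b) : Linked D a b := by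
  by_cases e : b = a
  · exact e ▸ Relation.ReflTransGen.refl
  · exact Relation.ReflTransGen.single ⟨⟨hb, e, h⟩, ha⟩

theorem Linked.trans {a b c : G} (h : Linked D a b) (h' : Linked D b c) : Linked D a c :=
  Relation.ReflTransGen.trans h h'

namespace Datum

variable [Finite G] (S : Datum D D₀ a₀ hF)
include S

theorem pair_notMem {r s : G} (hr : r ∈ D) (hs : s ∈ perp D r) : r * s ∉ D := by
  intro h
  have n1 : r * s ≠ r := fun e => S.ne_one s hs.1 (mul_eq_left.1 e)
  have n2 : r * s ≠ s := fun e => S.ne_one r hr (mul_eq_right.1 e)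
  have c1 : Commute r (r * s) := (Commute.refl r).mul_right hs.2.2
  have c2 : Commute s (r * s) := hs.2.2.symm.mul_right (Commute.refl s)
  have := S.no_one hr (l := [r, s, r * s]) (by simp [hs.2.1.symm, n1.symm, n2.symm])
    (by simp [hr, hs.1, h]) (by simp [hs.2.2.symm, c1.symm])
    (by simp [hs.2.2, hs.2.2.symm, c1, c1.symm, c2, c2.symm])
    (by
      simp only [List.prod_cons, List.prod_nil, mul_one]
      rw [← mul_assoc, S.pair_sq hr hs]) (by simp)
  simp at this

theorem linked_pair {x r s : G} (hx : x ∈ D) (hr : r ∈ D) (hs : s ∈ perp D r) (h : Commute x (r * s)) :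
    Linked D r x :=
  linked_of_commute hr hx (S.member_commute_pair hr hs hx h).1.symm

/-- An involution commuting with a pair and with a member apart from it is neither member nor pair. -/
theorem neither {k r s x : G} (hk : k * k = 1) (hr : r ∈ D) (hs : s ∈ perp D r) (hx : x ∈ D)
    (hkp : Commute k (r * s)) (hkx : Commute k x) (hfar : ¬ Linked D r x) : k ∉ D ∧ ¬ IsPair D k := by
  refine ⟨fun hkD => hfar ((S.linked_pair hkD hr hs hkp).trans (linked_of_commute hkD hx hkx)), ?_⟩
  rintro ⟨r', hr', s', hs', rfl⟩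
  refine hfar (Linked.trans ?_ (S.linked_pair hx hr' hs' hkx.symm))
  rcases S.cent_pair hr' hs' hkp.symm with ⟨h1, -⟩ | ⟨hswap, -⟩
  · exact S.linked_pair hr' hr hs (mul_inv_eq_iff_eq_mul.1 h1 : Commute (r * s) r').symm
  obtain ⟨l, hl, hfix⟩ := S.fixed_quad hr hs hk (S.cent_pair hr hs hkp)
  rcases S.split_four hk hl.1 hl.2.1 hfix with ⟨e, he, hke⟩ | ⟨e₁, e₂, e₃, e₄, hperm, h12, h34⟩
  · exact (linked_of_commute hr (hl.2.2.1 e he).1.1 (hl.2.2.1 e he).1.2.2).trans
      (S.linked_pair (hl.2.2.1 e he).1.1 hr' hs' hke.symm).symm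
  obtain ⟨hnd, -, hmem, hcm, hprod⟩ := hl.perm hperm
  simp only [List.nodup_cons, List.mem_cons, List.not_mem_nil, or_false, not_or, List.nodup_nil,
    and_true, not_false_eq_true] at hnd
  obtain ⟨⟨n12, -, -⟩, -, n34⟩ := hnd
  have hp : e₁ * e₂ * (e₃ * e₄) = r * s := by rw [← hprod]; simp [mul_assoc]
  have hcase : ∀ u v : G, u ∈ [e₁, e₂, e₃, e₄] → v ∈ [e₁, e₂, e₃, e₄] → u ≠ v →
      r' * s' * u * (r' * s')⁻¹ = v → (r' * r' = 1) →
      Linked D r r' ∨ u * v * r' * (u * v)⁻¹ = s' := by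
    intro u v hu hv hne huv _
    have hvu : r' * s' * v * (r' * s')⁻¹ = u := by
      rw [← huv]
      calc r' * s' * (r' * s' * u * (r' * s')⁻¹) * (r' * s')⁻¹ =
          (r' * s' * (r' * s')) * u * ((r' * s') * (r' * s'))⁻¹ := by group
        _ = u := by rw [hk]; group
    have huc : Commute u v := hcm u hu v hv
    have hcom : Commute (u * v) (r' * s') := by
      refine (?_ : Commute (r' * s') (u * v)).symm
      refine mul_inv_eq_iff_eq_mul.1 ?_
      rw [show r' * s' * (u * v) * (r' * s')⁻¹ = r' * s' * u * (r' * s')⁻¹ * (r' * s' * v * (r' * s')⁻¹) by group,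
        huv, hvu, huc.eq]
    rcases S.cent_pair hr' hs' hcom with ⟨h1, -⟩ | ⟨h1, -⟩
    · have h2 := S.linked_pair hr' (hmem u hu).1.1 ⟨(hmem v hv).1.1, hne.symm, huc⟩
        (mul_inv_eq_iff_eq_mul.1 h1 : Commute (u * v) r').symm
      exact Or.inl ((linked_of_commute hr (hmem u hu).1.1 (hmem u hu).1.2.2).trans h2)
    · exact Or.inr h1
  have hr'2 := S.sq r' hr'
  rcases hcase e₁ e₂ (by simp) (by simp) n12 h12 hr'2 with h | h
  · exact h
  rcases hcase e₃ e₄ (by simp) (by simp) n34 h34 hr'2 with h' | h'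
  · exact h'
  exfalso
  have hs'r : e₁ * e₂ * s' * (e₁ * e₂)⁻¹ = r' := by
    have h2 : e₁ * e₂ * (e₁ * e₂) = 1 :=
      S.pair_sq (hmem e₁ (by simp)).1.1 ⟨(hmem e₂ (by simp)).1.1, Ne.symm n12, hcm e₁ (by simp) e₂ (by simp)⟩
    rw [← h]
    calc e₁ * e₂ * (e₁ * e₂ * r' * (e₁ * e₂)⁻¹) * (e₁ * e₂)⁻¹ =
        (e₁ * e₂ * (e₁ * e₂)) * r' * (e₁ * e₂ * (e₁ * e₂))⁻¹ := by group
      _ = r' := by rw [h2]; group
  have : r * s * r' * (r * s)⁻¹ = r' := by
    rw [← hp, show e₁ * e₂ * (e₃ * e₄) * r' * (e₁ * e₂ * (e₃ * e₄))⁻¹ =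
      e₁ * e₂ * (e₃ * e₄ * r' * (e₃ * e₄)⁻¹) * (e₁ * e₂)⁻¹ by group, h', hs'r]
  exact hs'.2.1 (this.symm.trans hswap).symm

/-- The neighbours fixed by an elementary abelian group centralising the member are odd in number. -/
theorem fixed_odd {U : Subgroup G} (hU : ∀ u ∈ U, u * u = 1) {y : G} (hy : y ∈ D) (hUy : ∀ u ∈ U, Commute u y) :
    Odd {e | e ∈ perp D y ∧ ∀ u ∈ U, Commute u e}.ncard := by
  have hact : ∀ u : U, ∀ e : perp D y, (u : G) * e * (u : G)⁻¹ ∈ perp D y := fun u e => by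
    have := S.perp_conj (g := (u : G)) e.2
    rwa [(hUy u u.2).eq, mul_inv_cancel_right] at this
  letI : MulAction U (perp D y) :=
    { smul := fun u e => ⟨_, hact u e⟩
      one_smul := fun e => Subtype.ext (show ((1 : U) : G) * e * ((1 : U) : G)⁻¹ = e by simp)
      mul_smul := fun u v e => Subtype.ext (show ((u * v : U) : G) * e * ((u * v : U) : G)⁻¹ =
        u * ((v : G) * e * (v : G)⁻¹) * (u : G)⁻¹ by push_cast; group) }
  haveI : Fact (Nat.Prime 2) := ⟨Nat.prime_two⟩
  have hp : IsPGroup 2 U := fun u => ⟨1, Subtype.ext (by rw [pow_one, SubgroupClass.coe_pow, pow_two]; exact hU u u.2)⟩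
  have h := hp.card_modEq_card_fixedPoints (perp D y)
  rw [Nat.card_coe_set_eq, S.card_perp hy] at h
  have e : Nat.card (MulAction.fixedPoints U (perp D y)) = {e | e ∈ perp D y ∧ ∀ u ∈ U, Commute u e}.ncard := by
    rw [← Nat.card_coe_set_eq]
    refine Nat.card_congr
      { toFun := fun e => ⟨e.1.1, e.1.2, fun u hu => mul_inv_eq_iff_eq_mul.1
          (congrArg Subtype.val (e.2 ⟨u, hu⟩) : u * e.1.1 * u⁻¹ = e.1.1)⟩
        invFun := fun e => ⟨⟨e.1, e.2.1⟩, fun u => Subtype.ext
          (show (u : G) * e.1 * (u : G)⁻¹ = e.1 by rw [(e.2.2 u u.2).eq, mul_inv_cancel_right])⟩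
        left_inv := fun e => rfl
        right_inv := fun e => rfl }
  rw [e] at h
  rw [Nat.odd_iff]
  exact h.symm

/-- The growing elementary abelian groups of the connectivity proof. -/
def Apart (D : Set G) (U : Subgroup G) : Prop :=
  (∀ u ∈ U, u * u = 1) ∧ (∀ u ∈ U, u ≠ 1 → u ∉ D ∧ ¬ IsPair D u) ∧
    ∃ x ∈ D, (∀ u ∈ U, Commute u x) ∧ ∃ r ∈ D, ∃ s ∈ perp D r, (∀ u ∈ U, Commute u (r * s)) ∧ ¬ Linked D r x

theorem comm_of_sq {U : Subgroup G} (hU : ∀ u ∈ U, u * u = 1) {u v : G} (hu : u ∈ U) (hv : v ∈ U) :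
    Commute u v := by
  have e : ∀ w ∈ U, w⁻¹ = w := fun w hw => inv_eq_of_mul_eq_one_right (hU w hw)
  show u * v = v * u
  rw [← e _ (U.mul_mem hu hv), mul_inv_rev, e u hu, e v hv]

/-- The pair may be moved off the members. -/
theorem exists_good_pair {U : Subgroup G} (hU : Apart D U) :
    ∃ x ∈ D, (∀ u ∈ U, Commute u x) ∧ ∃ r ∈ D, ∃ s ∈ perp D r, (∀ u ∈ U, Commute u (r * s)) ∧
      ¬ Linked D r x ∧ ∀ u ∈ U, r * s * u ∉ D := by
  classical
  obtain ⟨hsq, hnei, x, hx, hxU, r, hr, s, hs, hpU, hfar⟩ := hU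
  by_cases hbad : ∃ u ∈ U, r * s * u ∈ D
  swap
  · push Not at hbad
    exact ⟨x, hx, hxU, r, hr, s, hs, hpU, hfar, hbad⟩
  obtain ⟨u₀, hu₀, hy⟩ := hbad
  obtain ⟨y, hy'⟩ : ∃ y, y = r * s * u₀ := ⟨_, rfl⟩
  rw [← hy'] at hy
  have hyp : Commute y (r * s) := hy' ▸ (Commute.refl _).mul_left (hpU u₀ hu₀)
  have hyfar : ¬ Linked D y x := fun h => hfar ((S.linked_pair hy hr hs hyp).trans h)
  have hUy : ∀ u ∈ U, Commute u y := fun u hu => hy' ▸ (hpU u hu).mul_right (S.comm_of_sq hsq hu hu₀)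
  let E : Set G := {e | e ∈ perp D y ∧ ∀ u ∈ U, Commute u e}
  have hEodd : Odd E.ncard := S.fixed_odd hsq hy hUy
  suffices h : ∃ e ∈ E, ∀ u ∈ U, y * e * u ∉ D by
    obtain ⟨e, he, hgood⟩ := h
    exact ⟨x, hx, hxU, y, hy, e, he.1, fun u hu => (hUy u hu).mul_right (he.2 u hu), hyfar, hgood⟩
  by_contra hall
  push Not at hall
  choose! μ hμ hμD using hall
  have hyU : y ∉ U := fun h => (hnei y h (S.ne_one y hy)).1 hy
  have hprop : ∀ e ∈ E, y * e * μ e ∈ E ∧ y * e * μ e ≠ e := by
    intro e he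
    have hyy : y * y = 1 := S.sq y hy
    have hcy : Commute y (y * e * μ e) :=
      ((Commute.refl y).mul_right he.1.2.2).mul_right (hUy _ (hμ e he)).symm
    refine ⟨⟨⟨hμD e he, fun h => ?_, hcy⟩, fun u hu =>
      ((hUy u hu).mul_right (he.2 u hu)).mul_right (S.comm_of_sq hsq hu (hμ e he))⟩, fun h => ?_⟩
    · rw [mul_assoc, mul_eq_left] at h
      have e2 : e = μ e := (eq_inv_of_mul_eq_one_left h).trans (inv_eq_of_mul_eq_one_right (hsq _ (hμ e he)))
      exact (hnei _ (e2 ▸ hμ e he) (S.ne_one e he.1.1)).1 he.1.1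
    · rw [he.1.2.2.eq, mul_assoc, mul_eq_left] at h
      exact hyU (by rw [eq_inv_of_mul_eq_one_left h]; exact U.inv_mem (hμ e he))
  have huniq : ∀ e ∈ E, ∀ u ∈ U, y * e * u ∈ D → u = μ e := by
    intro e he u hu huD
    by_contra hne
    have hc : Commute (y * e * μ e) (y * e * u) := by
      have h1 : Commute y e := he.1.2.2
      have hue : ∀ w ∈ U, Commute w (y * e) := fun w hw => (hUy w hw).mul_right (he.2 w hw)
      exact ((Commute.refl (y * e)).mul_right (hue u hu).symm).mul_left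
        ((hue _ (hμ e he)).mul_right (S.comm_of_sq hsq (hμ e he) hu))
    have hprod : y * e * μ e * (y * e * u) = μ e * u := by
      rw [(he.2 _ (hμ e he) |> fun h => ((hUy _ (hμ e he)).mul_right h)).mul_mul_mul_comm, S.pair_sq hy he.1,
        one_mul]
    have hpair : IsPair D (μ e * u) :=
      ⟨_, hμD e he, _, ⟨huD, fun h => hne (mul_left_cancel h), hc⟩, hprod.symm⟩
    refine (hnei _ (U.mul_mem (hμ e he) hu) (fun h => hne ?_)).2 hpair
    rw [eq_inv_of_mul_eq_one_right h, inv_eq_of_mul_eq_one_right (hsq _ (hμ e he))]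
  have hfinE : E.Finite := Set.toFinite _
  obtain ⟨e, he, hfix⟩ := exists_fixed_of_odd (s := hfinE.toFinset)
    (by rwa [← Set.ncard_eq_toFinset_card E hfinE]) (fun e => y * e * μ e)
    (fun e he => by rw [Set.Finite.mem_toFinset] at he ⊢; exact (hprop e he).1)
    (fun e he => by
      rw [Set.Finite.mem_toFinset] at he
      have hu := hμ e he
      have hback : y * (y * e * μ e) * μ e = e := by
        calc y * (y * e * μ e) * μ e = (y * y) * e * (μ e * μ e) := by simp only [mul_assoc]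
          _ = e := by rw [S.sq y hy, hsq _ hu, one_mul, mul_one]
      have hm : μ e = μ (y * e * μ e) :=
        huniq _ (hprop e he).1 _ hu (by rw [hback]; exact he.1.1)
      show y * (y * e * μ e) * μ (y * e * μ e) = e
      rw [← hm, hback])
  rw [Set.Finite.mem_toFinset] at he
  exact (hprop e he).2 hfix

/-- The group can be enlarged. -/
theorem apart_grow {U : Subgroup G} (hU : Apart D U) : ∃ U' : Subgroup G, Apart D U' ∧ U < U' := by
  obtain ⟨x, hx, hxU, r, hr, s, hs, hpU, hfar, hgood⟩ := S.exists_good_pair hU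
  obtain ⟨hsq, hnei, -⟩ := hU
  obtain ⟨p, hp⟩ : ∃ p, p = r * s := ⟨_, rfl⟩
  rw [← hp] at hpU hgood
  have hpp : p * p = 1 := hp ▸ S.pair_sq hr hs
  have hxx : x * x = 1 := S.sq x hx
  have hpi : p⁻¹ = p := inv_eq_of_mul_eq_one_right hpp
  have hxi : x⁻¹ = x := S.inv_eq hx
  obtain ⟨n, hn⟩ : ∃ n, n = orderOf (p * x) := ⟨_, rfl⟩
  have hxj : ∀ j : ℕ, x * (p * x) ^ j * x = ((p * x) ^ j)⁻¹ := fun j => by
    have h1 : x * (p * x) * x⁻¹ = (p * x)⁻¹ := by rw [mul_inv_rev, hxi, hpi, mul_assoc, mul_assoc, hxx, mul_one]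
    have h2 := congrArg (· ^ j) h1
    simp only [conj_pow, inv_pow] at h2
    rwa [hxi] at h2
  have hpj : ∀ j : ℕ, p * (p * x) ^ j * p = ((p * x) ^ j)⁻¹ := fun j => by
    have h1 : p * (p * x) * p⁻¹ = (p * x)⁻¹ := by rw [mul_inv_rev, hxi, hpi, ← mul_assoc, hpp, one_mul]
    have h2 := congrArg (· ^ j) h1
    simp only [conj_pow, inv_pow] at h2
    rwa [hpi] at h2
  have hrot : ∀ i : ℕ, (p * x) ^ (2 * i) * x ∈ D := fun i => by
    have h := S.conj ((p * x) ^ i) x hx
    rwa [show (p * x) ^ i * x * ((p * x) ^ i)⁻¹ = (p * x) ^ (2 * i) * x by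
      rw [← hxj, two_mul, pow_add]
      calc (p * x) ^ i * x * (x * (p * x) ^ i * x) = (p * x) ^ i * (x * x) * (p * x) ^ i * x := by
            simp only [mul_assoc]
        _ = (p * x) ^ i * (p * x) ^ i * x := by rw [hxx, mul_one]] at h
  rcases Nat.even_or_odd n with ⟨m, hm⟩ | ⟨m, hm⟩
  swap
  · exfalso
    have h := hrot m
    have e : (p * x) ^ (2 * m) * x = x * p * x := by
      have : (p * x) ^ (2 * m) = (p * x)⁻¹ :=
        eq_inv_of_mul_eq_one_left (by rw [← pow_succ, ← hm, hn, pow_orderOf_eq_one])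
      rw [this, mul_inv_rev, hxi, hpi]
    rw [e] at h
    have h' := S.conj x _ h
    rw [hxi, show x * (x * p * x) * x = (x * x) * p * (x * x) by simp only [mul_assoc], hxx, one_mul,
      mul_one] at h'
    exact S.pair_notMem hr hs (hp ▸ h')
  have hnpos : 0 < n := hn ▸ orderOf_pos _
  obtain ⟨k, hk⟩ : ∃ k, k = (p * x) ^ m := ⟨_, rfl⟩
  have hk2 : k * k = 1 := by rw [hk, ← pow_add, ← hm, hn, pow_orderOf_eq_one]
  have hk1 : k ≠ 1 := hk ▸ pow_ne_one_of_lt_orderOf (by omega) (by omega)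
  have hki : k⁻¹ = k := inv_eq_of_mul_eq_one_right hk2
  have hkx : Commute k x := by
    have h := hxj m
    rw [← hk, hki] at h
    show k * x = x * k
    conv_lhs => rw [← h]
    rw [mul_assoc (x * k) x x, hxx, mul_one]
  have hkp : Commute k p := by
    have h := hpj m
    rw [← hk, hki] at h
    show k * p = p * k
    conv_lhs => rw [← h]
    rw [mul_assoc (p * k) p p, hpp, mul_one]
  have hkU : ∀ u ∈ U, Commute u k := fun u hu => hk ▸ ((hpU u hu).mul_right (hxU u hu)).pow_right m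
  have hnotU : k ∉ U := by
    intro hkmem
    rcases Nat.even_or_odd m with ⟨i, hi⟩ | ⟨i, hi⟩
    · have h := hrot i
      rw [two_mul, ← hi, ← hk] at h
      refine (hnei k hkmem hk1).2 ⟨x, hx, k * x, ⟨h, fun e => hk1 (mul_eq_right.1 e),
        hkx.symm.mul_right (Commute.refl x)⟩, ?_⟩
      rw [hkx.eq, ← mul_assoc, hxx, one_mul]
    · refine hgood k hkmem ?_
      have h := hrot i
      have e : p * k = x * (p * x) ^ (2 * i) := by
        rw [hk, hi, pow_succ', ← mul_assoc, ← mul_assoc, hpp, one_mul]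
      have h' := S.conj x _ h
      rw [hxi, ← mul_assoc, mul_assoc _ x x, hxx, mul_one] at h'
      exact e ▸ h'
  let U' : Subgroup G :=
    { carrier := {g | g ∈ U ∨ g * k ∈ U}
      one_mem' := Or.inl U.one_mem
      mul_mem' := by
        intro g h hg hh
        rcases hg with hg | hg <;> rcases hh with hh | hh
        · exact Or.inl (U.mul_mem hg hh)
        · exact Or.inr (by rw [mul_assoc]; exact U.mul_mem hg hh)
        · refine Or.inr ?_
          have := U.mul_mem hg hh
          rwa [mul_assoc, ← (hkU h hh).eq, ← mul_assoc] at this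
        · refine Or.inl ?_
          have hhk : Commute h k := by
            have := (hkU _ hh).mul_left (Commute.refl k).inv_left
            rwa [mul_inv_cancel_right] at this
          have := U.mul_mem hg hh
          rwa [mul_assoc, hhk.eq, ← mul_assoc k k h, hk2, one_mul] at this
      inv_mem' := by
        intro g hg
        rcases hg with hg | hg
        · exact Or.inl (U.inv_mem hg)
        · refine Or.inr ?_
          have hgk : Commute g k := by
            have := (hkU _ hg).mul_left (Commute.refl k).inv_left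
            rwa [mul_inv_cancel_right] at this
          have := U.inv_mem hg
          rwa [hgk.eq, mul_inv_rev, hki] at this }
  have hdec : ∀ g ∈ U', ∀ {y : G}, (∀ u ∈ U, Commute u y) → Commute k y → Commute g y := by
    intro g hg y hy hky
    rcases hg with hg | hg
    · exact hy g hg
    · have := (hy _ hg).mul_left hky.inv_left
      rwa [mul_inv_cancel_right] at this
  refine ⟨U', ⟨fun g hg => ?_, fun g hg hg1 => ?_, x, hx, fun g hg => hdec g hg hxU hkx, r, hr, s, hs,
    fun g hg => hp ▸ hdec g hg hpU hkp, hfar⟩, ?_⟩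
  · rcases hg with hg | hg
    · exact hsq g hg
    · have hgk : Commute g k := by
        have := (hkU _ hg).mul_left (Commute.refl k).inv_left
        rwa [mul_inv_cancel_right] at this
      have h2 := hsq _ hg
      rwa [hgk.symm.mul_mul_mul_comm, hk2, mul_one] at h2
  · by_cases hgU : g ∈ U
    · exact hnei g hgU hg1
    · have hgk : g * k ∈ U := (hg : g ∈ U ∨ g * k ∈ U).resolve_left hgU
      refine S.neither ?_ hr hs hx (hp ▸ hdec g hg hpU hkp) (hdec g hg hxU hkx) hfar
      have hgk' : Commute g k := by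
        have := (hkU _ hgk).mul_left (Commute.refl k).inv_left
        rwa [mul_inv_cancel_right] at this
      have h2 := hsq _ hgk
      rwa [hgk'.symm.mul_mul_mul_comm, hk2, mul_one] at h2
  · refine lt_of_le_of_ne (fun g hg => Or.inl hg) fun e => hnotU ?_
    rw [e]
    exact Or.inr (hk2 ▸ U.one_mem)

/-- The commuting graph is connected. -/
theorem linked {a b : G} (ha : a ∈ D) (hb : b ∈ D) : Linked D a b := by
  by_contra hfar
  obtain ⟨s, hs⟩ := S.perp_nonempty ha
  have h0 : Apart D (⊥ : Subgroup G) := by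
    refine ⟨fun u hu => by rw [Subgroup.mem_bot.1 hu, one_mul], fun u hu h => absurd (Subgroup.mem_bot.1 hu) h,
      b, hb, fun u hu => ?_, a, ha, s, hs, fun u hu => ?_, hfar⟩ <;>
      rw [Subgroup.mem_bot.1 hu] <;> exact Commute.one_left _
  obtain ⟨U, hU, hmax⟩ : ∃ U, Apart D U ∧ ∀ V, Apart D V → ¬ U < V := by
    obtain ⟨U, hU, hmax⟩ := (wellFounded_gt : WellFounded fun U V : Subgroup G => U > V).has_min
      {U : Subgroup G | Apart D U} ⟨⊥, h0⟩
    exact ⟨U, hU, hmax⟩
  obtain ⟨V, hV, hlt⟩ := S.apart_grow hU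
  exact hmax V hV hlt

end Datum

end Cfsg.Lib.Fischer.FromCent
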