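import Cfsg.Agent.Lib.Fischer.FromCent.Connected

/-!
# Members at distance three do not occur

Along a path `d - e - f - w` every line of the neighbourhood of `e` through `f` carries one member commuting
with `w`; no such choice avoids `d`.
-/

set_option autoImplicit false
set_option linter.unusedSectionVars false

namespace Cfsg.Lib.Fischer.FromCent

open Module Cfsg Cfsg.Lib.Fischer Cfsg.Lib.Fischer.Relations Cfsg.Lib.Linear.Herm Cfsg.Agent.S1631
  Cfsg.Lib.Fischer.RadicalAbelian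

section Linear

variable {F V : Type*} [Field F] [Fintype F] [AddCommGroup V] [Module F V] [FiniteDimensional F V]
  {σ : F →+* F} {B : V →ₛₗ[σ] V →ₗ[F] F} (hK : FourField F σ) (hS : B.IsSymm) (hB : B.Nondegenerate)
include hK hS hB

/-- Below a hyperbolic pair and orthonormal vectors there is a vector of norm one. -/
theorem exists_unit_perp {p q : V} (hp : B p p = 0) (hq : B q q = 0) (hpq : B p q = 1) {k : ℕ}
    (es : Fin k → V) (hk : k + 2 < finrank F V) (he : ∀ i, B p (es i) = 0 ∧ B q (es i) = 0)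
    (horth : ∀ i j, B (es i) (es j) = if i = j then 1 else 0) :
    ∃ z, B p z = 0 ∧ B q z = 0 ∧ (∀ i, B (es i) z = 0) ∧ B z z = 1 := by
  by_contra hcon
  push Not at hcon
  have hqp : B q p = 1 := by rw [← hS.eq, hpq, map_one]
  let L : V →ₗ[F] F × F × (Fin k → F) := (B p).prod ((B q).prod (LinearMap.pi fun i => B (es i)))
  have hker : LinearMap.ker L = ⊥ := by
    rw [eq_bot_iff]
    intro a ha
    simp only [L, LinearMap.ker_prod, Submodule.mem_inf, LinearMap.mem_ker] at ha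
    obtain ⟨hpa, hqa, hea⟩ := ha
    have hea' : ∀ i, B (es i) a = 0 := fun i => by simpa using congrFun hea i
    have h0 : ∀ z, B p z = 0 → B q z = 0 → (∀ i, B (es i) z = 0) → B z z = 0 := fun z h1 h2 h3 =>
      (fixed_cases hK (hS.eq z z)).resolve_right (hcon z h1 h2 h3)
    obtain ⟨ω, hω⟩ := Linear.exists_omega hK hS hB
    have hzero : ∀ b, B p b = 0 → B q b = 0 → (∀ i, B (es i) b = 0) → B a b = 0 := by
      intro b hb hb' hb''
      have key : ∀ c : F, σ c * B b a + c * B a b = 0 := fun c => by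
        have h' := h0 (a + c • b) (by simp [hpa, hb]) (by simp [hqa, hb']) (fun i => by simp [hea', hb''])
        simp only [map_add, LinearMap.add_apply, LinearMap.map_smulₛₗ, LinearMap.smul_apply, map_smul,
          smul_eq_mul, RingHom.id_apply, h0 a hpa hqa hea', h0 b hb hb' hb'', mul_zero, add_zero, zero_add] at h'
        linear_combination h'
      have h1 := key 1
      rw [map_one, one_mul, one_mul] at h1
      have h3 : (σ ω - ω) * B a b = 0 := by linear_combination (σ ω) * h1 - key ω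
      exact (mul_eq_zero.mp h3).resolve_left (sub_ne_zero.mpr hω)
    refine (Submodule.mem_bot F).2 (hB.1 a fun v => ?_)
    obtain ⟨v', hv'⟩ : ∃ v', v' = v - B q v • p - B p v • q - ∑ i, B (es i) v • es i := ⟨_, rfl⟩
    have hap : B a p = 0 := hS.isRefl _ _ hpa
    have haq : B a q = 0 := hS.isRefl _ _ hqa
    have hae : ∀ i, B a (es i) = 0 := fun i => hS.isRefl _ _ (hea' i)
    have hep : ∀ i, B (es i) p = 0 := fun i => hS.isRefl _ _ (he i).1
    have heq : ∀ i, B (es i) q = 0 := fun i => hS.isRefl _ _ (he i).2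
    have h1 : B p v' = 0 := by simp [hv', map_sub, map_sum, hp, hpq, (he _).1]
    have h2 : B q v' = 0 := by simp [hv', map_sub, map_sum, hq, hqp, (he _).2]
    have h3 : ∀ j, B (es j) v' = 0 := fun j => by
      simp [hv', map_sub, map_sum, hep, heq, horth]
    have h4 := hzero v' h1 h2 h3
    rw [hv'] at h4
    simpa [map_sub, map_sum, hap, haq, hae] using h4
  have h1 := LinearMap.finrank_range_add_finrank_ker L
  have h2 := Submodule.finrank_le (LinearMap.range L)
  rw [hker, finrank_bot] at h1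
  rw [Module.finrank_prod, Module.finrank_prod, Module.finrank_self, finrank_fintype_fun_eq_card,
    Fintype.card_fin] at h2
  omega

/-- Four orthonormal vectors below a hyperbolic pair. -/
theorem exists_orthonormal_four {p q : V} (hp : B p p = 0) (hq : B q q = 0) (hpq : B p q = 1)
    (h6 : 6 ≤ finrank F V) :
    ∃ es : Fin 4 → V, (∀ i, B p (es i) = 0 ∧ B q (es i) = 0) ∧
      ∀ i j, B (es i) (es j) = if i = j then 1 else 0 := by
  suffices h : ∀ k ≤ 4, ∃ es : Fin k → V, (∀ i, B p (es i) = 0 ∧ B q (es i) = 0) ∧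
      ∀ i j, B (es i) (es j) = if i = j then 1 else 0 from h 4 le_rfl
  intro k hk
  induction k with
  | zero => exact ⟨Fin.elim0, fun i => i.elim0, fun i => i.elim0⟩
  | succ k ih =>
    obtain ⟨es, he, horth⟩ := ih (by omega)
    obtain ⟨z, hz1, hz2, hz3, hzz⟩ := exists_unit_perp hK hS hB hp hq hpq es (by omega) he horth
    refine ⟨Fin.snoc es z, fun i => ?_, fun i j => ?_⟩
    · refine Fin.lastCases ?_ ?_ i <;> simp [hz1, hz2, he]
    · refine Fin.lastCases ?_ ?_ i <;> refine Fin.lastCases ?_ ?_ j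
      · simp [hzz]
      · intro a
        simp [show B z (es a) = 0 from hS.isRefl _ _ (hz3 a), (Fin.castSucc_lt_last a).ne']
      · intro a
        simp [hz3 a, (Fin.castSucc_lt_last a).ne]
      · intro a b
        simp [horth, eq_comm]

end Linear

/-- Among nonzero elements of a field of four, three distinct leave no fourth. -/
theorem eq_third {F : Type*} [Field F] [Fintype F] (hF : Fintype.card F = 2 ^ 2) {a b c d : F} (ha : a ≠ 0)
    (hb : b ≠ 0) (hc : c ≠ 0) (hd : d ≠ 0) (hab : a ≠ b) (hca : c ≠ a) (hcb : c ≠ b) (hda : d ≠ a)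
    (hdb : d ≠ b) : c = d := by
  classical
  by_contra h
  have h5 : ({0, a, b, c, d} : Finset F).card = 5 := by
    rw [Finset.card_insert_of_notMem (by simp [ha.symm, hb.symm, hc.symm, hd.symm]),
      Finset.card_insert_of_notMem (by simp [hab, hca.symm, hda.symm]),
      Finset.card_insert_of_notMem (by simp [hcb.symm, hdb.symm]),
      Finset.card_insert_of_notMem (by simp [h]), Finset.card_singleton]
  have := Finset.card_le_univ ({0, a, b, c, d} : Finset F)
  rw [h5, hF] at this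
  omega

variable {H : Type} [Group H] [Finite H] {F : Type} [Field F] [Fintype F]
  {G : Type*} [Group G] {D : Set G} {D₀ : Set H} {a₀ : H} {hF : Fintype.card F = 2 ^ 2}

namespace Datum

variable [Finite G] (S : Datum D D₀ a₀ hF)
include S

/-- A member off `e` in the neighbourhood of `f` commutes with a member of each line through `e`. -/
theorem line_hit {e f w q : G} (he : e ∈ D) (U : UData (perp D e) (hB hF 6)) (hf : f ∈ perp D e)
    (hq : q ∈ perp D e) (hfq : Commute f q) (hne : f ≠ q) (hw : w ∈ perp D f) (hew : ¬ Commute e w) :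
    ∃ x ∈ perp D e, Commute x w ∧ x ≠ f ∧ ∃ α β : F, U.c x = α • U.c f + β • U.c q := by
  obtain ⟨U'⟩ := S.exists_udata hf.1
  have hK := fourField hF
  have hS := hB_isSymm hF 6
  have hB' := hB_nondegenerate hF 6
  have h5 : 5 ≤ finrank F (Fin 6 → F) := by rw [finrank_fin_fun]; norm_num
  have hef : e ∈ perp D f := S.perp_symm he hf
  have hqf : q ∈ perp D f := ⟨hq.1, hne.symm, hfq⟩
  have heq : e ≠ q := hq.2.1.symm
  obtain ⟨g₁, g₂, g₃, h1, h2, h3, hnd, hcm, hcen, hline⟩ :=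
    U'.exists_five hK hS hB' h5 hef hqf heq hq.2.2
  have hin : ∀ x ∈ [e, q, g₁, g₂, g₃], x ∈ perp D f := by simp [hef, hqf, h1, h2, h3]
  have hcf : ∀ x ∈ [e, q, g₁, g₂, g₃], Commute x f := fun x hx => (hin x hx).2.2.symm
  have hprod : [e, q, g₁, g₂, g₃].prod = f := by
    refine (S.eq_or_eq hf.1 (Commute.list_prod_left _ _ hcf) hcen).resolve_left fun h => ?_
    have := S.no_one hf.1 hnd (fun x hx => (hin x hx).1) hcf hcm h (by simp)
    simp at this
  obtain ⟨t, ht⟩ : ∃ t, t = -(hB hF 6 (U'.c w) (U'.c q) / hB hF 6 (U'.c w) (U'.c e)) := ⟨_, rfl⟩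
  have hwe : hB hF 6 (U'.c w) (U'.c e) ≠ 0 := fun h => hew ((U'.comm w hw e hef).2 h).symm
  have hqe : hB hF 6 (U'.c q) (U'.c e) = 0 := (U'.comm q hqf e hef).1 hq.2.2.symm
  have heq' : hB hF 6 (U'.c e) (U'.c q) = 0 := (U'.comm e hef q hqf).1 hq.2.2
  have hv0 : U'.c q + t • U'.c e ≠ 0 := fun h => heq (U'.inj e hef q hqf (-t) (by
    rw [neg_smul, eq_neg_iff_add_eq_zero, h]))
  obtain ⟨x, hx, k, hk, hxc⟩ := U'.every (U'.c q + t • U'.c e)
    (by simp [U'.iso q hqf, U'.iso e hef, hqe, heq']) hv0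
  have hmem := hline x hx ⟨k * t, k, by rw [hxc, smul_add, smul_smul, add_comm]⟩
  have hxw : Commute x w := by
    refine ((U'.comm w hw x hx).2 ?_).symm
    rw [hxc, map_smul, map_add, map_smul, smul_eq_mul, smul_eq_mul, ht, neg_mul, div_mul_cancel₀ _ hwe,
      add_neg_cancel, mul_zero]
  have hxe : x ≠ e := fun h => hew (h ▸ hxw)
  -- the same five in the neighbourhood of `e`
  have hswap : ∀ y ∈ [f, q, g₁, g₂, g₃], y ∈ perp D e := by
    intro y hy
    simp only [List.mem_cons, List.not_mem_nil, or_false] at hy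
    have hn := hnd
    simp only [List.nodup_cons, List.mem_cons, List.not_mem_nil, or_false, not_or] at hn
    rcases hy with rfl | rfl | rfl | rfl | rfl
    exacts [hf, hq, ⟨h1.1, Ne.symm hn.1.2.1, hcm e (by simp) _ (by simp)⟩,
      ⟨h2.1, Ne.symm hn.1.2.2.1, hcm e (by simp) _ (by simp)⟩, ⟨h3.1, Ne.symm hn.1.2.2.2, hcm e (by simp) _ (by simp)⟩]
  have hcm' : ∀ y ∈ [f, q, g₁, g₂, g₃], ∀ z ∈ [f, q, g₁, g₂, g₃], Commute y z := by
    intro y hy z hz
    rcases List.mem_cons.1 hy with e1 | hy <;> rcases List.mem_cons.1 hz with e2 | hz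
    · rw [e1, e2]
    · rw [e1]; exact (hcf z (List.mem_cons_of_mem _ hz)).symm
    · rw [e2]; exact hcf y (List.mem_cons_of_mem _ hy)
    · exact hcm y (List.mem_cons_of_mem _ hy) z (List.mem_cons_of_mem _ hz)
  have hnd' : [f, q, g₁, g₂, g₃].Nodup :=
    List.nodup_cons.2 ⟨fun h => (hin f (List.mem_cons_of_mem _ h)).2.1 rfl, (List.nodup_cons.1 hnd).2⟩
  have hp' : [f, q, g₁, g₂, g₃].prod = e := by
    have h : [q, g₁, g₂, g₃].prod = e * f := by
      have h0 : e * [q, g₁, g₂, g₃].prod = f := by rw [← List.prod_cons]; exact hprod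
      rw [← h0, ← mul_assoc, S.sq e he, one_mul]
    rw [List.prod_cons, h, hf.2.2.eq, ← mul_assoc, S.sq f hf.1, one_mul]
  have hx' : x ∈ [q, g₁, g₂, g₃] := (List.mem_cons.1 hmem).resolve_left hxe
  refine ⟨x, hswap x (List.mem_cons_of_mem _ hx'), hxw, hx.2.1, ?_⟩
  rcases List.mem_cons.1 hx' with rfl | hx'
  · exact ⟨0, 1, by simp⟩
  · exact U.five_span hK hS hB' h5 rfl hnd' hswap hcm' (fun y hy => by rw [hp']; exact hy.2.2) hx'

/-- No path of length three without a common neighbour of its ends. -/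
theorem no_path {d e f w : G} (hd : d ∈ D) (he : e ∈ D) (hde : d ∈ perp D e) (hef : f ∈ perp D e)
    (hfw : w ∈ perp D f) (hdw : ¬ Commute d w) (hew : ¬ Commute e w) (hdf : ¬ Commute d f)
    (hno : ∀ y ∈ perp D d, ¬ Commute w y) : False := by
  have hK := fourField hF
  have hS := hB_isSymm hF 6
  have hB' := hB_nondegenerate hF 6
  have h5 : 5 ≤ finrank F (Fin 6 → F) := by rw [finrank_fin_fun]; norm_num
  obtain ⟨U⟩ := S.exists_udata he
  obtain ⟨Dv, hDv⟩ : ∃ v, v = U.c d := ⟨_, rfl⟩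
  have hne : hB hF 6 Dv (U.c f) ≠ 0 := fun h => hdf ((U.comm d hde f hef).2 (hDv ▸ h))
  obtain ⟨μ, hμ⟩ : ∃ μ, μ = (hB hF 6 Dv (U.c f))⁻¹ := ⟨_, rfl⟩
  obtain ⟨Fv, hFv⟩ : ∃ v, v = μ • U.c f := ⟨_, rfl⟩
  have hμ0 : μ ≠ 0 := hμ ▸ inv_ne_zero hne
  have hDF : hB hF 6 Dv Fv = 1 := by rw [hFv, map_smul, smul_eq_mul, hμ, inv_mul_cancel₀ hne]
  have hFF : hB hF 6 Fv Fv = 0 := by simp [hFv, U.iso f hef]
  have hDD : hB hF 6 Dv Dv = 0 := hDv ▸ U.iso d hde
  obtain ⟨es, hes, horth⟩ := exists_orthonormal_four hK hS hB' hDD hFF hDF (by rw [finrank_fin_fun])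
  -- one member on each line through `f`
  have hnear : ∀ x ∈ perp D e, Commute x w → ¬ Commute d x := fun x hx hxw hdx => by
    rcases eq_or_ne x d with rfl | hne
    · exact hdw hxw
    · exact hno x ⟨hx.1, hne, hdx⟩ hxw.symm
  have hpick : ∀ v, hB hF 6 Dv v = 0 → hB hF 6 Fv v = 0 → hB hF 6 v v = 0 → v ≠ 0 →
      ∃ a : F, a ≠ 0 ∧ ∃ x ∈ perp D e, Commute x w ∧ ∃ k : F, k ≠ 0 ∧ U.c x = k • (Fv + a • v) := by
    intro v hDv' hFv' hvv hv0
    obtain ⟨q, hq, k, hk, hqc⟩ := U.every v hvv hv0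
    have hfq : Commute f q := by
      refine (U.comm f hef q hq).2 ?_
      rw [hqc, map_smul, smul_eq_mul]
      have : hB hF 6 (U.c f) v = 0 := by
        have h' := hFv'
        rw [hFv, LinearMap.map_smulₛₗ, LinearMap.smul_apply, smul_eq_mul, mul_eq_zero, map_eq_zero] at h'
        exact h'.resolve_left hμ0
      rw [this, mul_zero]
    have hdq : Commute d q := (U.comm d hde q hq).2 (by rw [← hDv, hqc, map_smul, hDv', smul_zero])
    have hfq' : f ≠ q := fun h => hdf (h ▸ hdq)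
    obtain ⟨x, hx, hxw, hxf, α, β, hxc⟩ := S.line_hit he U hef hq hfq hfq' hfw hew
    have hα : α ≠ 0 := fun h0 => by
      rw [h0, zero_smul, zero_add] at hxc
      exact hnear x hx hxw ((U.comm d hde x hx).2 (by rw [← hDv, hxc, hqc, map_smul, map_smul, hDv', smul_zero, smul_zero]))
    have hβ : β ≠ 0 := fun h0 => by
      rw [h0, zero_smul, add_zero] at hxc
      exact hxf (U.inj f hef x hx α hxc).symm
    refine ⟨μ * α⁻¹ * β * k, mul_ne_zero (mul_ne_zero (mul_ne_zero hμ0 (inv_ne_zero hα)) hβ) hk, x, hx, hxw,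
      α * μ⁻¹, mul_ne_zero hα (inv_ne_zero hμ0), ?_⟩
    rw [hxc, hqc, hFv, smul_add, smul_smul, smul_smul, smul_smul]
    congr 2 <;> field_simp
  choose! a ha x hx hxw κ hκ hxc using hpick
  -- the choices avoid one value
  have hneq : ∀ v v', hB hF 6 Dv v = 0 → hB hF 6 Fv v = 0 → hB hF 6 v v = 0 → v ≠ 0 →
      hB hF 6 Dv v' = 0 → hB hF 6 Fv v' = 0 → hB hF 6 v' v' = 0 → v' ≠ 0 →
      hB hF 6 v v' ≠ 0 → frob hF (a v) * a v' * hB hF 6 v v' ≠ 1 := by
    intro v v' h1 h2 h3 h4 h1' h2' h3' h4' hvv' hg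
    have hvF : hB hF 6 v Fv = 0 := hS.isRefl _ _ h2
    have hPQ : hB hF 6 (Fv + a v • v) (Fv + a v' • v') = 1 := by
      rw [← hg]
      simp [hFF, h2', hvF]
      ring
    obtain ⟨X, hX⟩ : ∃ X, X = x v := ⟨_, rfl⟩
    obtain ⟨Y, hY⟩ : ∃ Y, Y = x v' := ⟨_, rfl⟩
    have hXp : X ∈ perp D e := hX ▸ hx v h1 h2 h3 h4
    have hYp : Y ∈ perp D e := hY ▸ hx v' h1' h2' h3' h4'
    have hXc : U.c X = κ v • (Fv + a v • v) := hX ▸ hxc v h1 h2 h3 h4
    have hYc : U.c Y = κ v' • (Fv + a v' • v') := hY ▸ hxc v' h1' h2' h3' h4'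
    have hκX := hκ v h1 h2 h3 h4
    have hκY := hκ v' h1' h2' h3' h4'
    have hXY : ¬ Commute X Y := fun h => by
      have h0 := (U.comm X hXp Y hYp).1 h
      rw [hXc, hYc, map_smul, LinearMap.map_smulₛₗ, LinearMap.smul_apply, hPQ, smul_eq_mul, smul_eq_mul,
        mul_one, mul_eq_zero, map_eq_zero] at h0
      exact h0.elim hκY hκX
    obtain ⟨Z, hZ⟩ : ∃ Z, Z = X * Y * X := ⟨_, rfl⟩
    have hXi := S.inv_eq hXp.1
    have hXX := S.sq X hXp.1
    have hZ' : Z = X * Y * X⁻¹ := by rw [hXi, hZ]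
    have hZp : Z ∈ perp D e := by
      have := S.perp_conj (g := X) hYp
      rwa [hXp.2.2.symm.eq, mul_inv_cancel_right, ← hZ'] at this
    have hZw : Commute Z w := by
      rw [hZ, hX, hY]
      exact ((hxw v h1 h2 h3 h4).mul_left (hxw v' h1' h2' h3' h4')).mul_left (hxw v h1 h2 h3 h4)
    have hPP : hB hF 6 (Fv + a v • v) (Fv + a v • v) = 0 := by simp [hFF, h2, h3, hvF]
    have hQQ : hB hF 6 (Fv + a v' • v') (Fv + a v' • v') = 0 := by
      simp [hFF, h2', h3', hS.isRefl _ _ h2']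
    have hside : ∀ s, hB hF 6 s s = 0 → s ≠ 0 → hB hF 6 (Fv + a v • v) s = 0 →
        hB hF 6 (Fv + a v' • v') s = 0 → hB hF 6 (U.c Z) s = 0 := fun s hs hs0 hXs hYs => by
      obtain ⟨r, hr, i, hi, hrc⟩ := U.every s hs hs0
      have c1 : Commute X r := (U.comm X hXp r hr).2 (by
        rw [hXc, hrc, map_smul, LinearMap.map_smulₛₗ, LinearMap.smul_apply, hXs, smul_zero, smul_zero])
      have c2 : Commute Y r := (U.comm Y hYp r hr).2 (by
        rw [hYc, hrc, map_smul, LinearMap.map_smulₛₗ, LinearMap.smul_apply, hYs, smul_zero, smul_zero])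
      have h := (U.comm Z hZp r hr).1 (hZ ▸ (c1.mul_left c2).mul_left c1)
      rw [hrc, map_smul, smul_eq_mul] at h
      exact (mul_eq_zero.1 h).resolve_left hi
    rcases Linear.hyperbolic_third hK hS hB' h5 hPP hQQ (by rw [hPQ]; exact one_ne_zero) (U.iso Z hZp) hside
      with ⟨k, hk⟩ | ⟨k, hk⟩ | ⟨k, hk⟩
    · have e1 : X = Z := U.inj X hXp Z hZp (k * (κ v)⁻¹) (by
        rw [hk, hXc, smul_smul, mul_assoc, inv_mul_cancel₀ hκX, mul_one])
      refine hXY ?_
      have : Y = X := by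
        calc Y = X * Z * X := by rw [hZ]; simp only [← mul_assoc, hXX, one_mul]; rw [mul_assoc, hXX, mul_one]
          _ = X := by rw [← e1, hXX, one_mul]
      rw [this]
    · have e1 : Y = Z := U.inj Y hYp Z hZp (k * (κ v')⁻¹) (by
        rw [hk, hYc, smul_smul, mul_assoc, inv_mul_cancel₀ hκY, mul_one])
      exact hXY (mul_inv_eq_iff_eq_mul.1 (hZ' ▸ e1).symm)
    · refine hnear Z hZp hZw ((U.comm d hde Z hZp).2 ?_)
      rw [← hDv, hk, hPQ, inv_one, one_smul]
      simp only [map_smul, map_add, hDF, h1, h1', smul_zero, add_zero, smul_eq_mul]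
      linear_combination k * hK.two
  -- the six vectors
  obtain ⟨X, hXd⟩ : ∃ X : F → Fin 6 → F, ∀ l, X l = es 0 + l • es 1 := ⟨_, fun _ => rfl⟩
  obtain ⟨y, hy⟩ : ∃ y, y = es 0 + es 2 := ⟨_, rfl⟩
  obtain ⟨y', hy'⟩ : ∃ y', y' = es 0 + es 3 := ⟨_, rfl⟩
  obtain ⟨u, hu⟩ : ∃ u, u = es 1 + es 2 := ⟨_, rfl⟩
  have hN : ∀ l : F, l ≠ 0 → frob hF l * l = 1 := fun l hl => by rw [hK.sq]; exact hK.cube l hl
  have hnz : ∀ v w', hB hF 6 v w' = 1 → v ≠ 0 := fun v w' h h0 => by simp [h0] at h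
  have bD : ∀ i, hB hF 6 Dv (es i) = 0 := fun i => (hes i).1
  have bF : ∀ i, hB hF 6 Fv (es i) = 0 := fun i => (hes i).2
  have iy : hB hF 6 y y = 0 := by simp [hy, horth]; linear_combination hK.two
  have iy' : hB hF 6 y' y' = 0 := by simp [hy', horth]; linear_combination hK.two
  have iu : hB hF 6 u u = 0 := by simp [hu, horth]; linear_combination hK.two
  have iX : ∀ l, l ≠ 0 → hB hF 6 (X l) (X l) = 0 := fun l hl => by
    simp [hXd, horth]; linear_combination hN l hl + hK.two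
  have pXy : ∀ l, hB hF 6 (X l) y = 1 := fun l => by simp [hXd, hy, horth]
  have pXy' : ∀ l, hB hF 6 (X l) y' = 1 := fun l => by simp [hXd, hy', horth]
  have pyy' : hB hF 6 y y' = 1 := by simp [hy, hy', horth]
  have pXu : ∀ l, hB hF 6 (X l) u = frob hF l := fun l => by simp [hXd, hu, horth]
  have ny : y ≠ 0 := hnz _ _ pyy'
  have ny' : y' ≠ 0 := hnz _ (es 0) (by simp [hy', horth])
  have nu : u ≠ 0 := hnz _ (es 1) (by simp [hu, horth])
  have nX : ∀ l, X l ≠ 0 := fun l => hnz _ y (pXy l)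
  have dy : hB hF 6 Dv y = 0 ∧ hB hF 6 Fv y = 0 := by simp [hy, bD, bF]
  have dy' : hB hF 6 Dv y' = 0 ∧ hB hF 6 Fv y' = 0 := by simp [hy', bD, bF]
  have du : hB hF 6 Dv u = 0 ∧ hB hF 6 Fv u = 0 := by simp [hu, bD, bF]
  have dX : ∀ l, hB hF 6 Dv (X l) = 0 ∧ hB hF 6 Fv (X l) = 0 := fun l => by simp [hXd, bD, bF]
  have hay := ha y dy.1 dy.2 iy ny
  have hay' := ha y' dy'.1 dy'.2 iy' ny'
  have hau := ha u du.1 du.2 iu nu
  have haX : ∀ l, l ≠ 0 → a (X l) ≠ 0 := fun l hl => ha _ (dX l).1 (dX l).2 (iX l hl) (nX l)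
  have d1 : a y ≠ a y' := fun h => hneq y y' dy.1 dy.2 iy ny dy'.1 dy'.2 iy' ny'
    (by rw [pyy']; exact one_ne_zero) (by rw [pyy', mul_one, ← h, hN _ hay])
  have d2 : ∀ l, l ≠ 0 → a (X l) ≠ a y := fun l hl h => hneq (X l) y (dX l).1 (dX l).2 (iX l hl) (nX l)
    dy.1 dy.2 iy ny (by rw [pXy]; exact one_ne_zero) (by rw [pXy, mul_one, h, hN _ hay])
  have d3 : ∀ l, l ≠ 0 → a (X l) ≠ a y' := fun l hl h => hneq (X l) y' (dX l).1 (dX l).2 (iX l hl) (nX l)
    dy'.1 dy'.2 iy' ny' (by rw [pXy']; exact one_ne_zero) (by rw [pXy', mul_one, h, hN _ hay'])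
  obtain ⟨c, hc⟩ : ∃ c, c = a (X 1) := ⟨_, rfl⟩
  have hc0 : c ≠ 0 := hc ▸ haX 1 one_ne_zero
  obtain ⟨l, hl⟩ : ∃ l, l = a u * c⁻¹ := ⟨_, rfl⟩
  have hl0 : l ≠ 0 := hl ▸ mul_ne_zero hau (inv_ne_zero hc0)
  have hXl : a (X l) = c := eq_third hF hay hay' (haX l hl0) hc0 d1 (d2 l hl0) (d3 l hl0)
    (hc ▸ d2 1 one_ne_zero) (hc ▸ d3 1 one_ne_zero)
  refine hneq (X l) u (dX l).1 (dX l).2 (iX l hl0) (nX l) du.1 du.2 iu nu
    (by rw [pXu]; exact fun h => hl0 ((frob hF).injective (by rw [h, map_zero]))) ?_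
  have hau' : a u = l * c := by rw [hl, mul_assoc, inv_mul_cancel₀ hc0, mul_one]
  rw [pXu, hXl, hau', show frob hF c * (l * c) * frob hF l = (frob hF c * c) * (frob hF l * l) by ring,
    hN c hc0, hN l hl0, one_mul]

/-- Two members commute or have a common neighbour. -/
theorem near {a b : G} (ha : a ∈ D) (hb : b ∈ D) : Commute a b ∨ ∃ y ∈ perp D a, Commute b y := by
  have h := S.linked ha hb
  induction h with
  | refl => exact Or.inl (Commute.refl a)
  | @tail u v _ huv ih =>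
    obtain ⟨huv, hu⟩ := huv
    by_cases hav : Commute a v
    · exact Or.inl hav
    refine Or.inr ?_
    rcases ih hu with hau | ⟨y, hy, hyu⟩
    · refine ⟨u, ⟨hu, fun e => hav (e ▸ huv.2.2), hau⟩, huv.2.2.symm⟩
    by_cases hau : Commute a u
    · exact ⟨u, ⟨hu, fun e => hav (e ▸ huv.2.2), hau⟩, huv.2.2.symm⟩
    by_cases hyv : Commute v y
    · exact ⟨y, hy, hyv⟩
    by_contra hno
    push Not at hno
    have hyu' : u ≠ y := fun e => hau (e ▸ hy.2.2)
    exact S.no_path ha hy.1 (S.perp_symm ha hy) ⟨hu, hyu', hyu.symm⟩ huv hav (fun h => hyv h.symm) hau hno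

/-- The members are 3-transpositions. -/
theorem three_trans {a b : G} (ha : a ∈ D) (hb : b ∈ D) : (a * b) ^ 2 = 1 ∨ (a * b) ^ 3 = 1 := by
  by_cases h : Commute a b
  · exact Or.inl (by rw [pow_two, h.symm.mul_mul_mul_comm, S.sq a ha, S.sq b hb, one_mul])
  refine Or.inr ?_
  obtain ⟨y, hy, hby⟩ := (S.near ha hb).resolve_left h
  have hbr := S.braid hy.1 ha hy.2.2 hb hby h
  calc (a * b) ^ 3 = a * b * a * (b * a * b) := by rw [pow_succ, pow_two]; simp only [mul_assoc]
    _ = a * b * a * (a * b * a) := by rw [hbr]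
    _ = a * b * (a * a) * b * a := by simp only [mul_assoc]
    _ = 1 := by rw [S.sq a ha, mul_one, mul_assoc a b b, S.sq b hb, mul_one, S.sq a ha]

end Datum

end Cfsg.Lib.Fischer.FromCent
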