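import Cfsg.Agent.Lib.Fischer.Fi22Recog.Chart
import Cfsg.Agent.Lib.Fischer.Relations.M22
import Cfsg.Agent.Lib.Fischer.Relations.M22Simple
import Cfsg.Agent.Lib.Fischer.RankThree

/-!
# A class whose members have the centraliser of a transposition of a group of type M(22)

The facts about one centraliser are carried over from the model along the given coordinates.
-/

set_option autoImplicit false
set_option linter.unusedSectionVars false

open scoped commutatorElement

namespace Cfsg.Lib.Fischer.FromCent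

open Module Cfsg Cfsg.Lib.Fischer Cfsg.Lib.Linear.Herm Cfsg.Agent.S1631 Cfsg.Lib.Fischer.RadicalAbelian
open Cfsg.Lib.Fischer.Relations Cfsg.Lib.Fischer.Fi22Recog

/-- A normal subgroup of a quasisimple group is central or everything. -/
theorem normal_cases {C : Type*} [Group C] (hq : Cfsg.IsQuasisimple C) {N : Subgroup C} (hn : N.Normal) :
    N ≤ Subgroup.center C ∨ N = ⊤ := by
  have hi : (N.map (QuotientGroup.mk' (Subgroup.center C))).Normal := hn.map _ (QuotientGroup.mk'_surjective _)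
  rcases hq.2.eq_bot_or_eq_top_of_normal _ hi with h | h
  · rw [Subgroup.map_eq_bot_iff, QuotientGroup.ker_mk'] at h
    exact Or.inl h
  · refine Or.inr (eq_top_iff.2 ?_)
    have hsup : N ⊔ Subgroup.center C = ⊤ := by
      have := congrArg (Subgroup.comap (QuotientGroup.mk' (Subgroup.center C))) h
      rwa [Subgroup.comap_map_eq, QuotientGroup.ker_mk', Subgroup.comap_top] at this
    rw [← Group.isPerfect_def.1 hq.1, commutator_def, Subgroup.commutator_le]
    intro x _ y _
    obtain ⟨n, hn', z, hz, rfl⟩ := Subgroup.mem_sup_of_normal_left.1 (hsup.symm ▸ Subgroup.mem_top x)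
    have hzc : ∀ w, w * z = z * w := Subgroup.mem_center_iff.1 hz
    have e : ⁅n * z, y⁆ = n * (y * n⁻¹ * y⁻¹) := by
      rw [commutatorElement_def]
      calc n * z * y * (n * z)⁻¹ * y⁻¹ = n * (z * y) * z⁻¹ * n⁻¹ * y⁻¹ := by group
        _ = n * (y * z) * z⁻¹ * n⁻¹ * y⁻¹ := by rw [hzc y]
        _ = n * (y * n⁻¹ * y⁻¹) := by group
    rw [e]
    exact mul_mem hn' (hn.conj_mem _ (inv_mem hn') y)

variable {H : Type} [Group H] [Finite H] {F : Type} [Field F] [Fintype F]

/-- The model: a class of type M(22), a member, and the sizes of its neighbourhoods. -/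
structure Model (D₀ : Set H) (a₀ : H) (hF : Fintype.card F = 2 ^ 2) : Prop where
  m22 : M22 D₀ hF
  mem : a₀ ∈ D₀
  card_perp : (perp D₀ a₀).ncard = 693
  card_common : ∀ s ∈ perp D₀ a₀, (perp D₀ a₀ ∩ perp D₀ s).ncard = 180

variable {G : Type*} [Group G]

/-- Coordinates of a subgroup `A` of the centraliser of `a` that holds the members commuting with `a`. -/
structure Loc (D : Set G) (D₀ : Set H) (a₀ : H) (a : G) (A : Subgroup G) where
  φ : G → H
  le : ∀ x ∈ A, Commute x a
  self_mem : a ∈ A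
  perp_le : ∀ x ∈ D, Commute x a → x ∈ A
  map_mul : ∀ x y, x ∈ A → y ∈ A → φ (x * y) = φ x * φ y
  inj : ∀ x y, x ∈ A → y ∈ A → φ x = φ y → x = y
  mem : ∀ x ∈ A, Commute (φ x) a₀
  surj : ∀ y, Commute y a₀ → ∃ x ∈ A, φ x = y
  base : φ a = a₀
  class_iff : ∀ x ∈ A, (x ∈ D ↔ φ x ∈ D₀)

/-- The hypotheses on the class. -/
structure Datum (D : Set G) (D₀ : Set H) (a₀ : H) (hF : Fintype.card F = 2 ^ 2) : Prop where
  model : Model D₀ a₀ hF
  ne : D.Nonempty
  sq : ∀ a ∈ D, a * a = 1
  ne_one : ∀ a ∈ D, a ≠ 1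
  conj : ∀ g : G, ∀ a ∈ D, g * a * g⁻¹ ∈ D
  trans : ∀ a ∈ D, ∀ b ∈ D, ∃ g : G, g * a * g⁻¹ = b
  loc : ∀ a ∈ D, ∃ A : Subgroup G, Cfsg.IsQuasisimple ↥A ∧
    (∀ z, Commute z a → (∀ x ∈ A, Commute z x) → z = 1 ∨ z = a) ∧ Nonempty (Loc D D₀ a₀ a A)

variable {D : Set G} {D₀ : Set H} {a₀ : H}

namespace Loc

variable {a : G} {A : Subgroup G} (L : Loc D D₀ a₀ a A)
include L

theorem map_one : L.φ 1 = 1 := by
  have h := L.map_mul 1 1 (one_mem A) (one_mem A)
  rw [one_mul] at h
  exact mul_eq_left.1 h.symm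

theorem commute_iff {x y : G} (hx : x ∈ A) (hy : y ∈ A) :
    Commute (L.φ x) (L.φ y) ↔ Commute x y := by
  constructor
  · intro h
    refine L.inj _ _ (mul_mem hx hy) (mul_mem hy hx) ?_
    rw [L.map_mul x y hx hy, L.map_mul y x hy hx]
    exact h.eq
  · intro h
    show L.φ x * L.φ y = L.φ y * L.φ x
    rw [← L.map_mul x y hx hy, ← L.map_mul y x hy hx, h.eq]

theorem map_prod : ∀ {l : List G}, (∀ x ∈ l, x ∈ A) → L.φ l.prod = (l.map L.φ).prod
  | [], _ => by simp [L.map_one]
  | x :: l, h => by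
    rw [List.prod_cons, List.map_cons, List.prod_cons,
      L.map_mul x l.prod (h x (by simp)) (list_prod_mem fun y hy => h y (by simp [hy])),
      map_prod fun y hy => h y (by simp [hy])]

theorem eq_iff {x y : G} (hx : x ∈ A) (hy : y ∈ A) : L.φ x = L.φ y ↔ x = y :=
  ⟨L.inj x y hx hy, fun h => h ▸ rfl⟩

theorem nodup_map {l : List G} (hl : ∀ x ∈ l, x ∈ A) (hnd : l.Nodup) : (l.map L.φ).Nodup :=
  List.Nodup.map_on (fun x hx y hy h => L.inj x y (hl x hx) (hl y hy) h) hnd

theorem perp_mem {x : G} (hx : x ∈ perp D a) : x ∈ A := L.perp_le x hx.1 hx.2.2.symm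

theorem perp_map {x : G} (hx : x ∈ perp D a) : L.φ x ∈ perp D₀ a₀ :=
  ⟨(L.class_iff x (L.perp_mem hx)).1 hx.1, fun h => hx.2.1 (L.inj x a (L.perp_mem hx) L.self_mem (h.trans L.base.symm)),
    (L.mem x (L.perp_mem hx)).symm⟩

theorem perp_surj {y : H} (hy : y ∈ perp D₀ a₀) : ∃ x ∈ perp D a, L.φ x = y := by
  obtain ⟨x, hx, rfl⟩ := L.surj y hy.2.2.symm
  exact ⟨x, ⟨(L.class_iff x hx).2 hy.1, fun h => hy.2.1 (by rw [h, L.base]), (L.le x hx).symm⟩, rfl⟩

theorem image_perp : L.φ '' perp D a = perp D₀ a₀ :=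
  Set.Subset.antisymm (by rintro _ ⟨x, hx, rfl⟩; exact L.perp_map hx) fun y hy => L.perp_surj hy

theorem injOn_perp : Set.InjOn L.φ (perp D a) := fun x hx y hy h => L.inj x y (L.perp_mem hx) (L.perp_mem hy) h

/-- Coordinates on the neighbourhood. -/
def udata {V : Type*} [AddCommGroup V] [Module F V] {σ : F →+* F} {B : V →ₛₗ[σ] V →ₗ[F] F}
    (U : UData (perp D₀ a₀) B) : UData (perp D a) B where
  c x := U.c (L.φ x)
  iso s hs := U.iso _ (L.perp_map hs)
  ne s hs := U.ne _ (L.perp_map hs)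
  comm x hx y hy := (L.commute_iff (L.perp_mem hx) (L.perp_mem hy)).symm.trans
    (U.comm _ (L.perp_map hx) _ (L.perp_map hy))
  every w hw hw0 := by
    obtain ⟨s, hs, k, hk, h⟩ := U.every w hw hw0
    obtain ⟨x, hx, rfl⟩ := L.perp_surj hs
    exact ⟨x, hx, k, hk, h⟩
  inj x hx y hy k h := L.inj x y (L.perp_mem hx) (L.perp_mem hy) (U.inj _ (L.perp_map hx) _ (L.perp_map hy) k h)
  rel l hl hc y hy := by
    have hla : ∀ x ∈ l, x ∈ A := fun x hx => L.perp_mem (hl x hx)
    rw [← L.commute_iff (list_prod_mem hla) (L.perp_mem hy), L.map_prod hla,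
      U.rel (l.map L.φ) (fun z hz => by obtain ⟨x, hx, rfl⟩ := List.mem_map.1 hz; exact L.perp_map (hl x hx))
        (fun z hz z' hz' => by
          obtain ⟨x, hx, rfl⟩ := List.mem_map.1 hz
          obtain ⟨x', hx', rfl⟩ := List.mem_map.1 hz'
          exact (L.commute_iff (hla x hx) (hla x' hx')).2 (hc x hx x' hx')) _ (L.perp_map hy), List.map_map]
    rfl

/-- An element of `A` centralising `A` is trivial or the member. -/
theorem eq_or_eq [Finite G] {hF : Fintype.card F = 2 ^ 2} (M : Model D₀ a₀ hF) {z : G} (hz : z ∈ A)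
    (hc : ∀ x ∈ A, Commute z x) : z = 1 ∨ z = a := by
  have h := Relations.eq_or_eq_of_centralizes (F := F) (hF := hF) M.m22.fischer M.m22.data
    M.mem M.m22.prim M.m22.centre (L.mem z hz) (z := L.φ z) fun y hy => by
      obtain ⟨x, hx, rfl⟩ := L.perp_surj hy
      exact (L.commute_iff hz (L.perp_mem hx)).2 (hc x (L.perp_mem hx))
  rcases h with h | h
  · exact Or.inl (L.inj _ _ hz (one_mem A) (h.trans L.map_one.symm))
  · exact Or.inr (L.inj _ _ hz L.self_mem (h.trans L.base.symm))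

end Loc

namespace Datum

variable [Finite G] {hF : Fintype.card F = 2 ^ 2} (S : Datum D D₀ a₀ hF) {a : G}
include S

theorem trans₀ : Trans D₀ := S.model.m22.trans

theorem exists_udata (ha : a ∈ D) : Nonempty (UData (perp D a) (hB hF 6)) := by
  obtain ⟨A, -, -, ⟨L⟩⟩ := S.loc a ha
  obtain ⟨U⟩ := S.model.m22.data a₀ S.model.mem
  exact ⟨L.udata U⟩

theorem card_perp (ha : a ∈ D) : (perp D a).ncard = 693 := by
  obtain ⟨A, -, -, ⟨L⟩⟩ := S.loc a ha
  rw [← Set.InjOn.ncard_image L.injOn_perp, L.image_perp, S.model.card_perp]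

theorem card_common (ha : a ∈ D) {b : G} (hb : b ∈ perp D a) :
    (perp D a ∩ perp D b).ncard = 180 := by
  obtain ⟨A, -, -, ⟨L⟩⟩ := S.loc a ha
  rw [← Set.InjOn.ncard_image (L.injOn_perp.mono Set.inter_subset_left), ← S.model.card_common _ (L.perp_map hb)]
  congr 1
  ext y
  constructor
  · rintro ⟨x, ⟨hx, hxD, hxb, hbx⟩, rfl⟩
    exact ⟨L.perp_map hx, (L.perp_map hx).1, fun h => hxb (L.inj x b (L.perp_mem hx) (L.perp_mem hb) h),
      (L.commute_iff (L.perp_mem hb) (L.perp_mem hx)).2 hbx⟩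
  · rintro ⟨hy, -, hyb, hby⟩
    obtain ⟨x, hx, rfl⟩ := L.perp_surj hy
    exact ⟨x, ⟨hx, hx.1, fun h => hyb (by rw [h]), (L.commute_iff (L.perp_mem hb) (L.perp_mem hx)).1 hby⟩, rfl⟩

/-- Two members commuting with a third are braided or commute. -/
theorem braid (ha : a ∈ D) {x y : G} (hx : x ∈ D) (hxa : Commute x a) (hy : y ∈ D) (hya : Commute y a)
    (h : ¬ Commute x y) : x * y * x = y * x * y := by
  obtain ⟨A, -, -, ⟨L⟩⟩ := S.loc a ha
  have hxA := L.perp_le x hx hxa
  have hyA := L.perp_le y hy hya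
  refine L.inj _ _ (mul_mem (mul_mem hxA hyA) hxA) (mul_mem (mul_mem hyA hxA) hyA) ?_
  rw [L.map_mul _ _ (mul_mem hxA hyA) hxA, L.map_mul _ _ hxA hyA, L.map_mul _ _ (mul_mem hyA hxA) hyA,
    L.map_mul _ _ hyA hxA]
  have := Fischer.braid S.trans₀ ((L.class_iff x hxA).1 hx) ((L.class_iff y hyA).1 hy)
    fun h' => h ((L.commute_iff hxA hyA).1 h')
  simpa [cj_def] using this

/-- No short product of commuting members of a centraliser is trivial. -/
theorem no_one (ha : a ∈ D) {l : List G} (hnd : l.Nodup) (hl : ∀ x ∈ l, x ∈ D) (hla : ∀ x ∈ l, Commute x a)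
    (hc : ∀ x ∈ l, ∀ y ∈ l, Commute x y) (hp : l.prod = 1) (hlen : l.length ≤ 5) : l = [] := by
  obtain ⟨A, -, -, ⟨L⟩⟩ := S.loc a ha
  obtain ⟨U⟩ := S.model.m22.data a₀ S.model.mem
  have hlA : ∀ x ∈ l, x ∈ A := fun x hx => L.perp_le x (hl x hx) (hla x hx)
  have h := Relations.noRel_five S.trans₀ (fourField hF) (hB_isSymm hF 6) (hB_nondegenerate hF 6)
    (by rw [finrank_fin_fun]; norm_num) S.model.mem U S.model.m22.prim.2.1 (l.map L.φ) (L.nodup_map hlA hnd)
    (fun z hz => by obtain ⟨x, hx, rfl⟩ := List.mem_map.1 hz; exact (L.class_iff x (hlA x hx)).1 (hl x hx))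
    (fun z hz z' hz' => by
      obtain ⟨x, hx, rfl⟩ := List.mem_map.1 hz
      obtain ⟨x', hx', rfl⟩ := List.mem_map.1 hz'
      exact (L.commute_iff (hlA x hx) (hlA x' hx')).2 (hc x hx x' hx'))
    (fun y _ => by rw [← L.map_prod hlA, hp, L.map_one]; exact Commute.one_left y) (by simpa using hlen)
  simpa using h

/-- Commuting with a product of two commuting members is commuting with each. -/
theorem pair_commute (ha : a ∈ D) {x r s : G} (hx : x ∈ D) (hxa : Commute x a) (hr : r ∈ D) (hra : Commute r a)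
    (hs : s ∈ D) (hsa : Commute s a) (hrs : Commute r s) (hne : r ≠ s) (h : Commute x (r * s)) : Commute x r := by
  classical
  obtain ⟨A, -, -, ⟨L⟩⟩ := S.loc a ha
  have hxA := L.perp_le x hx hxa
  have hrA := L.perp_le r hr hra
  have hsA := L.perp_le s hs hsa
  rw [← L.commute_iff hxA hrA]
  by_contra hn
  have hc : ∀ u ∈ [L.φ r, L.φ s], ∀ v ∈ [L.φ r, L.φ s], Commute u v := by
    have hk := (L.commute_iff hrA hsA).2 hrs
    simp [hk, hk.symm]
  have hp : Commute [L.φ r, L.φ s].prod (L.φ x) := by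
    rw [List.prod_cons, List.prod_singleton, ← L.map_mul r s hrA hsA, L.commute_iff (mul_mem hrA hsA) hxA]
    exact h.symm
  rcases pattern S.trans₀ ((L.class_iff x hxA).1 hx) (l := [L.φ r, L.φ s])
      (by simp [L.eq_iff hrA hsA, hne]) (by simp [(L.class_iff r hrA).1 hr, (L.class_iff s hsA).1 hs]) hc hp with
    h0 | h4
  · rw [List.length_eq_zero_iff, List.filter_eq_nil_iff] at h0
    exact h0 (L.φ r) (by simp) (by simpa using hn)
  · have := (List.filter_sublist (l := [L.φ r, L.φ s]) (p := fun u => decide (¬ Commute (L.φ x) u))).length_le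
    have h2 : [L.φ r, L.φ s].length = 2 := rfl
    omega

/-- Inside a centraliser no member carries one of two commuting members to the other. -/
theorem no_flip (ha : a ∈ D) {x r s : G} (hx : x ∈ D) (hxa : Commute x a) (hr : r ∈ D) (hra : Commute r a)
    (hrs : Commute r s) (hne : r ≠ s) : x * r * x ≠ s := by
  intro h
  by_cases hc : Commute x r
  · rw [hc.eq, mul_assoc, S.sq x hx, mul_one] at h
    exact hne h
  · rw [S.braid ha hx hxa hr hra hc] at h
    have e : x = s := by
      calc x = r * r * x * (r * r) := by rw [S.sq r hr, one_mul, mul_one]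
        _ = r * (r * x * r) * r := by simp only [mul_assoc]
        _ = r * s * r := by rw [h]
        _ = s := by rw [hrs.eq, mul_assoc, S.sq r hr, mul_one]
    exact hc (e ▸ hrs.symm)

/-- Two commuting neighbours lie in just one five with product the member. -/
theorem five (ha : a ∈ D) {b c : G} (hb : b ∈ perp D a) (hc : c ∈ perp D a) (hne : b ≠ c) (hbc : Commute b c) :
    ∃ e f g : G, [b, c, e, f, g].Nodup ∧ (∀ x ∈ [b, c, e, f, g], x ∈ perp D a) ∧
      (∀ x ∈ [b, c, e, f, g], ∀ y ∈ [b, c, e, f, g], Commute x y) ∧ [b, c, e, f, g].prod = a ∧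
      ∀ t : List G, t.length = 3 → (b :: c :: t).Nodup → (∀ x ∈ b :: c :: t, x ∈ perp D a) →
        (∀ x ∈ b :: c :: t, ∀ y ∈ b :: c :: t, Commute x y) → (b :: c :: t).prod = a →
        ∀ x, x ∈ t ↔ x ∈ [e, f, g] := by
  classical
  obtain ⟨A, -, -, ⟨L⟩⟩ := S.loc a ha
  obtain ⟨U⟩ := S.model.m22.data a₀ S.model.mem
  have hK := fourField hF
  have hS := hB_isSymm hF 6
  have hB' := hB_nondegenerate hF 6
  have h5 : 5 ≤ finrank F (Fin 6 → F) := by rw [finrank_fin_fun]; norm_num
  obtain ⟨e₀, f₀, g₀, he, hf, hg, hnd, hcm, hcen, hline⟩ :=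
    U.exists_five hK hS hB' h5 (L.perp_map hb) (L.perp_map hc)
      (fun h => hne (L.inj b c (L.perp_mem hb) (L.perp_mem hc) h)) ((L.commute_iff (L.perp_mem hb) (L.perp_mem hc)).2 hbc)
  obtain ⟨e, hep, rfl⟩ := L.perp_surj he
  obtain ⟨f, hfp, rfl⟩ := L.perp_surj hf
  obtain ⟨g, hgp, rfl⟩ := L.perp_surj hg
  have hperp : ∀ x ∈ [b, c, e, f, g], x ∈ perp D a := by simp [hb, hc, hep, hfp, hgp]
  have hca : ∀ x ∈ [b, c, e, f, g], x ∈ A := fun x hx => L.perp_mem (hperp x hx)
  have hmap : [b, c, e, f, g].map L.φ = [L.φ b, L.φ c, L.φ e, L.φ f, L.φ g] := rfl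
  have hprod : [b, c, e, f, g].prod = a := by
    refine L.inj _ _ (list_prod_mem hca) L.self_mem ?_
    rw [L.base, L.map_prod hca, hmap]
    exact Relations.line_prod S.trans₀ hK hS hB' h5 S.model.m22.prim S.model.m22.centre S.model.m22.sep
      S.model.mem U (b := L.φ b) (t := [L.φ c, L.φ e, L.φ f, L.φ g]) rfl hnd
      (by simp [L.perp_map hb, L.perp_map hc, he, hf, hg]) hcm hcen
  refine ⟨e, f, g, List.Nodup.of_map L.φ (hmap ▸ hnd), hperp, fun x hx y hy => ?_, hprod, ?_⟩
  · exact (L.commute_iff (hca x hx) (hca y hy)).1 (hcm _ (hmap ▸ List.mem_map_of_mem hx) _ (hmap ▸ List.mem_map_of_mem hy))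
  intro t ht htnd htp htc htprod
  have htca : ∀ x ∈ b :: c :: t, x ∈ A := fun x hx => L.perp_mem (htp x hx)
  have hsub : t ⊆ [e, f, g] := by
    intro x hx
    have hspan := U.five_span hK hS hB' h5 (b₁ := L.φ b) (b₂ := L.φ c) (t := t.map L.φ) (by simpa using ht)
      (L.nodup_map htca htnd)
      (fun z hz => by
        rw [show L.φ b :: L.φ c :: t.map L.φ = (b :: c :: t).map L.φ from rfl, List.mem_map] at hz
        obtain ⟨u, hu, rfl⟩ := hz
        exact L.perp_map (htp u hu))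
      (fun z hz z' hz' => by
        rw [show L.φ b :: L.φ c :: t.map L.φ = (b :: c :: t).map L.φ from rfl, List.mem_map] at hz hz'
        obtain ⟨u, hu, rfl⟩ := hz
        obtain ⟨u', hu', rfl⟩ := hz'
        exact (L.commute_iff (htca u hu) (htca u' hu')).2 (htc u hu u' hu'))
      (fun y hy => by
        rw [show L.φ b :: L.φ c :: t.map L.φ = (b :: c :: t).map L.φ from rfl, ← L.map_prod htca, htprod, L.base]
        exact hy.2.2) (List.mem_map_of_mem hx)
    have hmem := hline _ (L.perp_map (htp x (by simp [hx]))) hspan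
    rw [← hmap, List.mem_map] at hmem
    obtain ⟨u, hu, hue⟩ := hmem
    have hux : u = x := L.inj u x (hca u hu) (htca x (by simp [hx])) hue
    rw [hux] at hu
    simp only [List.mem_cons, List.not_mem_nil, or_false] at hu ⊢
    simp only [List.nodup_cons, List.mem_cons, not_or] at htnd
    rcases hu with rfl | rfl | h
    exacts [absurd hx htnd.1.2, absurd hx htnd.2.1, h]
  have hndt : t.Nodup := (List.nodup_cons.1 (List.nodup_cons.1 htnd).2).2
  exact fun x => ((hndt.subperm hsub).perm_of_length_le (by rw [ht]; simp)).mem_iff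

theorem perp_conj {g a y : G} (hy : y ∈ perp D a) : g * y * g⁻¹ ∈ perp D (g * a * g⁻¹) :=
  ⟨S.conj g y hy.1, fun h => hy.2.1 (by simpa using h), (Commute.conj_iff g).2 hy.2.2⟩

theorem perp_nonempty (ha : a ∈ D) : (perp D a).Nonempty := by
  by_contra h
  rw [Set.not_nonempty_iff_eq_empty] at h
  have := S.card_perp ha
  rw [h, Set.ncard_empty] at this
  omega

/-- The neighbours generate the subgroup with coordinates. -/
theorem closure_perp_eq (ha : a ∈ D) {A : Subgroup G} (hq : Cfsg.IsQuasisimple ↥A) (L : Loc D D₀ a₀ a A) :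
    Subgroup.closure (perp D a) = A := by
  have hle : Subgroup.closure (perp D a) ≤ A := (Subgroup.closure_le _).2 fun y hy => L.perp_mem hy
  have hn : ((Subgroup.closure (perp D a)).subgroupOf A).Normal := by
    refine (Subgroup.normal_subgroupOf_iff hle).2 fun h c hh hc => ?_
    have hca : c * a * c⁻¹ = a := by rw [(L.le c hc).eq, mul_inv_cancel_right]
    induction hh using Subgroup.closure_induction with
    | mem y hy => exact Subgroup.subset_closure (hca ▸ S.perp_conj (g := c) hy)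
    | one => simp
    | mul u v _ _ hu hv => simpa [mul_assoc] using mul_mem hu hv
    | inv u _ hu => simpa [mul_assoc] using inv_mem hu
  refine le_antisymm hle ?_
  rw [← Subgroup.subgroupOf_eq_top]
  refine (normal_cases hq hn).resolve_left fun hz => ?_
  obtain ⟨U⟩ := S.exists_udata ha
  obtain ⟨y, hy⟩ := S.perp_nonempty ha
  obtain ⟨e, he, hne⟩ := U.exists_noncommute (fourField hF) (hB_isSymm hF 6) (hB_nondegenerate hF 6)
    (by rw [finrank_fin_fun]; norm_num) hy
  have h1 : (⟨y, hle (Subgroup.subset_closure hy)⟩ : A) ∈ Subgroup.center ↥A :=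
    hz (Subgroup.mem_subgroupOf.2 (Subgroup.subset_closure hy))
  exact hne (congrArg Subtype.val (Subgroup.mem_center_iff.1 h1 ⟨e, hle (Subgroup.subset_closure he)⟩)).symm

theorem closure_perp_qs (ha : a ∈ D) : Cfsg.IsQuasisimple ↥(Subgroup.closure (perp D a)) := by
  obtain ⟨A, hq, -, ⟨L⟩⟩ := S.loc a ha
  rw [S.closure_perp_eq ha hq L]
  exact hq

theorem self_mem_closure (ha : a ∈ D) : a ∈ Subgroup.closure (perp D a) := by
  obtain ⟨A, hq, -, ⟨L⟩⟩ := S.loc a ha
  rw [S.closure_perp_eq ha hq L]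
  exact L.self_mem

/-- What centralises a member and its neighbours is trivial or the member. -/
theorem eq_or_eq (ha : a ∈ D) {z : G} (hza : Commute z a) (hz : ∀ y ∈ perp D a, Commute z y) : z = 1 ∨ z = a := by
  obtain ⟨A, hq, hcent, ⟨L⟩⟩ := S.loc a ha
  have hle : A ≤ Subgroup.centralizer ({z} : Set G) := by
    rw [← S.closure_perp_eq ha hq L, Subgroup.closure_le]
    exact fun y hy => Subgroup.mem_centralizer_singleton_iff.2 (hz y hy).symm.eq
  exact hcent z hza fun x hx => (show Commute x z from Subgroup.mem_centralizer_singleton_iff.1 (hle hx)).symm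

/-- The neighbours generate a group transitive on them. -/
theorem perp_transitive (ha : a ∈ D) {b c : G} (hb : b ∈ perp D a) (hc : c ∈ perp D a) :
    ∃ g ∈ Subgroup.closure (perp D a), g * b * g⁻¹ = c := by
  obtain ⟨A, hq, -, ⟨L⟩⟩ := S.loc a ha
  obtain ⟨g₀, hg₀, h⟩ := Fischer.perp_transitive S.model.m22.fischer S.model.mem (L.perp_map hb) (L.perp_map hc)
  have hg₀a : Commute g₀ a₀ := by
    have hle : Subgroup.closure (perp D₀ a₀) ≤ Subgroup.centralizer ({a₀} : Set H) :=
      (Subgroup.closure_le _).2 fun y hy => Subgroup.mem_centralizer_singleton_iff.2 hy.2.2.eq.symm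
    exact Subgroup.mem_centralizer_singleton_iff.1 (hle hg₀)
  obtain ⟨g, hga, rfl⟩ := L.surj g₀ hg₀a
  rw [S.closure_perp_eq ha hq L]
  have hbA := L.perp_mem hb
  refine ⟨g, hga, L.inj _ _ (mul_mem (mul_mem hga hbA) (inv_mem hga)) (L.perp_mem hc) ?_⟩
  have hinv : L.φ g⁻¹ = (L.φ g)⁻¹ := by
    refine eq_inv_of_mul_eq_one_left ?_
    rw [← L.map_mul _ _ (inv_mem hga) hga, inv_mul_cancel, L.map_one]
  rw [L.map_mul _ _ (mul_mem hga hbA) (inv_mem hga), L.map_mul _ _ hga hbA, hinv]
  exact h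

end Datum

end Cfsg.Lib.Fischer.FromCent
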