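import Cfsg.Agent.Lib.Fischer.FromCent.Quads
import Cfsg.Agent.Lib.ZStar.Main

/-!
# What commutes with the product of two commuting members permutes them

Glauberman's theorem makes each of the two members central modulo the odd core of the centraliser of their
product, and that odd core is trivial.
-/

set_option autoImplicit false
set_option linter.unusedSectionVars false

namespace Cfsg.Lib.Fischer.FromCent

open scoped commutatorElement
open Module Cfsg Cfsg.Lib.Fischer Cfsg.Lib.Fischer.Relations Cfsg.Lib.Linear.Herm Cfsg.Agent.S1631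
  Cfsg.Lib.Fischer.RadicalAbelian

section General

variable {W : Type*} [Group W] [Finite W]

/-- An element of odd order squaring to one is trivial. -/
theorem eq_one_of_odd {x : W} (ho : Odd (orderOf x)) (h : x * x = 1) : x = 1 := by
  rw [← orderOf_eq_one_iff]
  have : orderOf x ∣ 2 := orderOf_dvd_of_pow_eq_one (by rw [pow_two, h])
  rcases (Nat.dvd_prime Nat.prime_two).1 this with e | e
  · exact e
  · rw [e] at ho; exact absurd ho (by decide)

/-- Modulo a central subgroup of order two the odd core is the image of the odd core. -/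
theorem oddCore_lift {z : W} (hz : orderOf z = 2) (hzc : z ∈ Subgroup.center W) [(Subgroup.zpowers z).Normal]
    {x : W} (hx : (x : W ⧸ Subgroup.zpowers z) ∈ Cfsg.oddCore (W ⧸ Subgroup.zpowers z)) :
    x ∈ Cfsg.oddCore W ∨ z * x ∈ Cfsg.oddCore W := by
  set Z := Subgroup.zpowers z
  have hZ2 : Nat.card Z = 2 := by rw [Nat.card_zpowers, hz]
  have hz2 : z * z = 1 := by rw [← pow_two, ← hz, pow_orderOf_eq_one]
  have hZmem : ∀ y ∈ Z, y = 1 ∨ y = z := by
    intro y hy
    obtain ⟨k, rfl⟩ := Subgroup.mem_zpowers_iff.1 hy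
    rw [← zpow_mod_orderOf, hz]
    rcases Int.emod_two_eq k with h | h <;> rw [Nat.cast_ofNat, h] <;> simp
  obtain ⟨L, hL⟩ : ∃ L, L = (Cfsg.oddCore (W ⧸ Z)).comap (QuotientGroup.mk' Z) := ⟨_, rfl⟩
  have hLn : L.Normal := hL ▸ Subgroup.Normal.comap inferInstance _
  obtain ⟨m, hm⟩ : ∃ m, m = Nat.card (Cfsg.oddCore (W ⧸ Z)) := ⟨_, rfl⟩
  have hmo : Odd m := hm ▸ ZStar.odd_card_oddCore
  have hZL : Z ≤ L := fun y hy => by
    rw [hL, Subgroup.mem_comap, QuotientGroup.mk'_apply, (QuotientGroup.eq_one_iff y).2 hy]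
    exact one_mem _
  have hLcard : Nat.card L = 2 * m := by
    rw [hL, Core.card_comap_eq _ (QuotientGroup.mk'_surjective Z), QuotientGroup.ker_mk', hZ2, hm]
  have hZn : (Z.subgroupOf L).Normal := Subgroup.Normal.subgroupOf inferInstance L
  have hZc : Nat.card (Z.subgroupOf L) = 2 := by
    rw [Nat.card_congr (Subgroup.subgroupOfEquivOfLe hZL).toEquiv, hZ2]
  have hidx : (Z.subgroupOf L).index = m := by
    have := Subgroup.card_mul_index (Z.subgroupOf L)
    rw [hZc, hLcard] at this
    omega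
  obtain ⟨K, hK⟩ := Subgroup.exists_right_complement'_of_coprime (N := Z.subgroupOf L)
    (by rw [hZc, hidx]; exact Nat.coprime_two_left.2 hmo)
  have hKcard : Nat.card K = m := by
    have := hK.card_mul
    rw [hZc, hLcard] at this
    omega
  have hKiff : ∀ y : L, y ∈ K ↔ y ^ m = 1 := by
    intro y
    refine ⟨fun hy => ?_, fun hy => ?_⟩
    · have h := pow_card_eq_one' (x := (⟨y, hy⟩ : K))
      rw [hKcard] at h
      exact congrArg Subtype.val h
    · obtain ⟨⟨c, k⟩, hck⟩ := hK.2 y
      replace hck : (c : L) * (k : L) = y := hck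
      rcases hZmem _ (Subgroup.mem_subgroupOf.1 c.2) with h | h
      · rw [← hck, show (c : L) = 1 from Subtype.ext h, one_mul]; exact k.2
      · exfalso
        have hk : (k : L) ^ m = 1 := by
          have h : (⟨(k : L), k.2⟩ : K) ^ Nat.card K = 1 := pow_card_eq_one'
          rw [hKcard] at h
          exact congrArg Subtype.val h
        have hcom : Commute (c : L) (k : L) := Subtype.ext (by
          push_cast
          rw [h]
          exact (Subgroup.mem_center_iff.1 hzc _).symm)
        rw [← hck, hcom.mul_pow, hk, mul_one] at hy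
        have hcm : z ^ m = 1 := by
          have := congrArg Subtype.val hy
          push_cast at this
          rwa [h] at this
        obtain ⟨r, rfl⟩ := hmo
        rw [pow_succ, pow_mul, pow_two, hz2, one_pow, one_mul] at hcm
        rw [hcm, orderOf_one] at hz
        omega
  have hKn : (K.map L.subtype).Normal := by
    refine ⟨fun n hn g => ?_⟩
    obtain ⟨y, hy, rfl⟩ := Subgroup.mem_map.1 hn
    refine Subgroup.mem_map.2 ⟨⟨g * y * g⁻¹, hLn.conj_mem _ y.2 g⟩, (hKiff _).2 (Subtype.ext ?_), rfl⟩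
    push_cast
    rw [conj_pow, show (y : W) ^ m = 1 from by
      have := congrArg Subtype.val ((hKiff y).1 hy); push_cast at this; exact this]
    group
  have hle : K.map L.subtype ≤ Cfsg.oddCore W :=
    ZStar.le_oddCore hKn (by rw [Subgroup.card_map_of_injective L.subtype_injective, hKcard]; exact hmo)
  have hxL : x ∈ L := hL ▸ hx
  obtain ⟨⟨c, k⟩, hck⟩ := hK.2 ⟨x, hxL⟩
  replace hck : ((c : L) : W) * ((k : L) : W) = x := congrArg Subtype.val hck
  have hk : ((k : L) : W) ∈ Cfsg.oddCore W := hle (Subgroup.mem_map.2 ⟨k, k.2, rfl⟩)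
  rcases hZmem _ (Subgroup.mem_subgroupOf.1 c.2) with h | h
  · left; rwa [← hck, h, one_mul]
  · right; rw [← hck, h, ← mul_assoc, hz2, one_mul]; exact hk

end General

variable {H : Type} [Group H] [Finite H] {F : Type} [Field F] [Fintype F]
  {G : Type*} [Group G] {D : Set G} {D₀ : Set H} {a₀ : H} {hF : Fintype.card F = 2 ^ 2}

/-- The odd core of the centraliser of `z`, in the whole group. -/
noncomputable def oddPart (z : G) : Subgroup G :=
  (Cfsg.oddCore ↥(Subgroup.centralizer ({z} : Set G))).map (Subgroup.centralizer ({z} : Set G)).subtype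

theorem oddPart_commute {z k : G} (hk : k ∈ oddPart z) : Commute k z := by
  obtain ⟨w, -, rfl⟩ := hk
  exact Subgroup.mem_centralizer_singleton_iff.1 w.2

theorem oddPart_conj {z w k : G} (hw : Commute w z) (hk : k ∈ oddPart z) : w * k * w⁻¹ ∈ oddPart z := by
  obtain ⟨u, hu, rfl⟩ := hk
  exact ⟨⟨w, Subgroup.mem_centralizer_singleton_iff.2 hw⟩ * u * ⟨w, Subgroup.mem_centralizer_singleton_iff.2 hw⟩⁻¹,
    (inferInstance : (Cfsg.oddCore ↥(Subgroup.centralizer ({z} : Set G))).Normal).conj_mem u hu _, rfl⟩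

theorem oddPart_card [Finite G] (z : G) : Odd (Nat.card (oddPart z)) := by
  rw [oddPart, Subgroup.card_map_of_injective (Subgroup.centralizer ({z} : Set G)).subtype_injective]
  exact ZStar.odd_card_oddCore

theorem oddPart_odd [Finite G] {z k : G} (hk : k ∈ oddPart z) : Odd (orderOf k) :=
  (oddPart_card z).of_dvd_nat (Subgroup.orderOf_dvd_natCard _ hk)

/-- An involution acting without fixed points on the odd part inverts it. -/
theorem oddPart_inverts [Finite G] {z e : G} (he : e * e = 1) (hez : Commute e z)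
    (hfix : ∀ x ∈ oddPart z, Commute x e → x = 1) {x : G} (hx : x ∈ oddPart z) : e * x * e = x⁻¹ := by
  have hei : e⁻¹ = e := inv_eq_of_mul_eq_one_right he
  let φ : ↥(oddPart z) →* ↥(oddPart z) :=
    MonoidHom.mk' (fun y => ⟨e * y * e, by simpa [hei] using oddPart_conj hez y.2⟩) fun u v => Subtype.ext (by
      show e * ((u : G) * v) * e = e * u * e * (e * v * e)
      calc e * ((u : G) * v) * e = e * u * 1 * v * e := by simp only [mul_assoc, one_mul]
        _ = _ := by rw [← he]; simp only [mul_assoc])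
  have h2 : Function.Involutive φ := fun y => Subtype.ext (by
    show e * (e * y * e) * e = y
    calc e * (e * (y : G) * e) * e = (e * e) * y * (e * e) := by simp only [mul_assoc]
      _ = y := by rw [he, one_mul, mul_one])
  have hf : MonoidHom.FixedPointFree φ := fun y hy => Subtype.ext (hfix y y.2 (by
    have h : e * (y : G) * e = y := congrArg Subtype.val hy
    show (y : G) * e = e * y
    conv_lhs => rw [← h]
    rw [mul_assoc (e * (y : G)) e e, he, mul_one]))
  exact congrArg Subtype.val (congrFun (MonoidHom.FixedPointFree.coe_eq_inv_of_involutive hf h2) ⟨x, hx⟩)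

namespace Datum

variable [Finite G] (S : Datum D D₀ a₀ hF) {a b : G}
include S

theorem pair_sq (ha : a ∈ D) (hb : b ∈ perp D a) : a * b * (a * b) = 1 := by
  rw [hb.2.2.symm.mul_mul_mul_comm, S.sq a ha, S.sq b hb.1, one_mul]

/-- A pair is determined by its product among pairs commuting with it. -/
theorem pair_eq {r s r' s' : G} (hr : r ∈ D) (hs : s ∈ D) (hr' : r' ∈ D) (hs' : s' ∈ D) (hrs : Commute r s)
    (hne : r ≠ s) (hne' : r' ≠ s') (h1 : Commute r r') (h2 : Commute s r') (h3 : Commute r' s')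
    (h : r * s = r' * s') : r' = r ∨ r' = s := by
  by_contra hcon
  push Not at hcon
  have e : s' = r' * (r * s) := by rw [h, ← mul_assoc, S.sq r' hr', one_mul]
  have h4 : Commute r s' := e ▸ h1.mul_right ((Commute.refl r).mul_right hrs)
  have h5 : Commute s s' := e ▸ h2.mul_right (hrs.symm.mul_right (Commute.refl s))
  have hsr : s' ≠ r := fun e' => by
    subst e'
    have : s = r' := mul_left_cancel (h.trans h3.eq)
    exact hcon.2 this.symm
  have hss : s' ≠ s := fun e' => by
    subst e'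
    exact hcon.1 (mul_right_cancel h).symm
  have := S.no_one hr (l := [r, s, r', s']) (by
      simp [hne, hcon.1.symm, hcon.2.symm, hne', hsr.symm, hss.symm])
    (by simp [hr, hs, hr', hs']) (by simp [hrs.symm, h1.symm, h4.symm])
    (by simp [hrs, h1, h2, h3, h4, h5, hrs.symm, h1.symm, h2.symm, h3.symm, h4.symm, h5.symm])
    (by
      simp only [List.prod_cons, List.prod_nil, mul_one]
      rw [← mul_assoc, ← h, hrs.symm.mul_mul_mul_comm, S.sq r hr, S.sq s hs, one_mul]) (by simp)
  simp at this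

/-- A conjugate of `a` under the centraliser of `a b` that commutes with `a` is `a` or `b`. -/
theorem conj_cases_of_commute (ha : a ∈ D) (hb : b ∈ perp D a) {w : G} (hw : Commute w (a * b))
    (hc : Commute a (w * a * w⁻¹)) : w * a * w⁻¹ = a ∨ w * a * w⁻¹ = b := by
  have hz : w * a * w⁻¹ * (w * b * w⁻¹) = a * b := by
    rw [show w * a * w⁻¹ * (w * b * w⁻¹) = w * (a * b) * w⁻¹ by group, hw.eq, mul_inv_cancel_right]
  have hcz : Commute (a * b) (w * a * w⁻¹) := by
    have h0 : Commute (a * b) a := (Commute.refl a).mul_left hb.2.2.symm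
    have := (Commute.conj_iff w).2 h0
    rwa [hw.eq, mul_inv_cancel_right] at this
  have hcb : Commute b (w * a * w⁻¹) := by
    have e : b = a * (a * b) := by rw [← mul_assoc, S.sq a ha, one_mul]
    rw [e]
    exact hc.mul_left hcz
  exact S.pair_eq ha hb.1 (S.conj w a ha) (S.conj w b hb.1) hb.2.2 hb.2.1.symm
    (fun h => hb.2.1.symm (mul_left_cancel (mul_right_cancel h))) hc hcb ((Commute.conj_iff w).2 hb.2.2) hz.symm

/-- Glauberman: `a` is central modulo the odd part. -/
theorem zstar (ha : a ∈ D) (hb : b ∈ perp D a) {w : G} (hw : Commute w (a * b)) :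
    a * (w * a * w⁻¹) ∈ oddPart (a * b) ∨ a * b * (a * (w * a * w⁻¹)) ∈ oddPart (a * b) := by
  set C := Subgroup.centralizer ({a * b} : Set G) with hC
  have hzC : a * b ∈ C := Subgroup.mem_centralizer_singleton_iff.2 rfl
  have haC : a ∈ C := Subgroup.mem_centralizer_singleton_iff.2 ((Commute.refl a).mul_right hb.2.2).eq
  let z : C := ⟨a * b, hzC⟩
  let u : C := ⟨a, haC⟩
  have hab1 : a * b ≠ 1 := S.mul_ne_one ha hb.2.1.symm
  have hz2 : orderOf z = 2 := orderOf_eq_prime (Subtype.ext (by rw [pow_two]; exact S.pair_sq ha hb))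
    fun h => hab1 (congrArg Subtype.val h)
  have hzc : z ∈ Subgroup.center C := Subgroup.mem_center_iff.2 fun g =>
    Subtype.ext (Subgroup.mem_centralizer_singleton_iff.1 g.2)
  set Z := Subgroup.zpowers z
  have hZn : Z.Normal := ⟨fun n hn g => by
    rw [Subgroup.mem_center_iff.1 (Subgroup.zpowers_le.2 hzc hn) g, mul_inv_cancel_right]; exact hn⟩
  have hZ : ∀ y ∈ Z, y = 1 ∨ y = z := by
    intro y hy
    obtain ⟨k, rfl⟩ := Subgroup.mem_zpowers_iff.1 hy
    rw [← zpow_mod_orderOf, hz2]
    rcases Int.emod_two_eq k with h | h <;> rw [Nat.cast_ofNat, h] <;> simp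
  have hu1 : (u : C ⧸ Z) ≠ 1 := by
    rw [Ne, QuotientGroup.eq_one_iff]
    intro h
    rcases hZ u h with h | h
    · exact S.ne_one a ha (congrArg Subtype.val h)
    · exact S.ne_one b hb.1 (mul_eq_left.1 (congrArg Subtype.val h).symm)
  have hiso : Cfsg.IsIsolatedInvolution (u : C ⧸ Z) := by
    refine ⟨orderOf_eq_prime ?_ hu1, fun g hc => ?_⟩
    · rw [pow_two, ← QuotientGroup.mk_mul, QuotientGroup.eq_one_iff,
        show u * u = 1 from Subtype.ext (S.sq a ha)]
      exact one_mem _
    obtain ⟨g, rfl⟩ := QuotientGroup.mk_surjective g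
    rw [commute_iff_eq, ← QuotientGroup.mk_inv, ← QuotientGroup.mk_mul, ← QuotientGroup.mk_mul,
      ← QuotientGroup.mk_mul, ← QuotientGroup.mk_mul, QuotientGroup.eq] at hc
    have hgz : Commute (g : G) (a * b) := Subgroup.mem_centralizer_singleton_iff.1 g.2
    have hD' : (g : G) * a * (g : G)⁻¹ ∈ D := S.conj _ a ha
    have hval : (((u * (g * u * g⁻¹))⁻¹ * (g * u * g⁻¹ * u) : C) : G) =
        ((g : G) * a * (g : G)⁻¹) * a * (((g : G) * a * (g : G)⁻¹) * a) := by
      push_cast
      rw [mul_inv_rev, S.inv_eq hD', S.inv_eq ha]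
    obtain ⟨g', hg'⟩ : ∃ g', g' = (g : G) * a * (g : G)⁻¹ := ⟨_, rfl⟩
    rw [← hg'] at hval hD'
    have hcom : Commute a g' := by
      rcases hZ _ hc with h | h
      · have h1 : g' * a * (g' * a) = 1 := hval ▸ congrArg Subtype.val h
        calc a * g' = g' * g' * (a * g') * (a * a) := by rw [S.sq g' hD', S.sq a ha, one_mul, mul_one]
          _ = g' * (g' * a * (g' * a)) * a := by simp only [mul_assoc]
          _ = g' * a := by rw [h1, mul_one]
      · exfalso
        have h1 : g' * a * (g' * a) = a * b := hval ▸ congrArg Subtype.val h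
        refine S.not_swap ha hb hD' ?_
        calc g' * a * g' = g' * a * g' * (a * a) := by rw [S.sq a ha, mul_one]
          _ = g' * a * (g' * a) * a := by simp only [mul_assoc]
          _ = b := by rw [h1, mul_assoc, hb.2.2.symm.eq, ← mul_assoc, S.sq a ha, one_mul]
    subst hg'
    rw [← QuotientGroup.mk_inv, ← QuotientGroup.mk_mul, ← QuotientGroup.mk_mul, QuotientGroup.eq]
    rcases S.conj_cases_of_commute ha hb hgz hcom with h | h
    · rw [show g * u * g⁻¹ = u from Subtype.ext h, inv_mul_cancel]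
      exact one_mem _
    · have : (g * u * g⁻¹)⁻¹ * u = z := Subtype.ext (by
        push_cast
        show ((g : G) * a * (g : G)⁻¹)⁻¹ * a = a * b
        rw [h, S.inv_eq hb.1, hb.2.2.symm.eq])
      rw [this]
      exact Subgroup.mem_zpowers z
  have hmem := ZStar.zStarHolds (C ⧸ Z) _ hiso ((⟨w, Subgroup.mem_centralizer_singleton_iff.2 hw⟩ : C) : C ⧸ Z)
  rw [← QuotientGroup.mk_inv, ← QuotientGroup.mk_mul, ← QuotientGroup.mk_inv, ← QuotientGroup.mk_mul,
    ← QuotientGroup.mk_mul] at hmem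
  let w' : C := ⟨w, Subgroup.mem_centralizer_singleton_iff.2 hw⟩
  have hval : ((u * w' * u⁻¹ * w'⁻¹ : C) : G) = a * (w * a * w⁻¹) := by
    push_cast
    show a * w * a⁻¹ * w⁻¹ = _
    rw [S.inv_eq ha]
    simp only [mul_assoc]
  rcases oddCore_lift hz2 hzc hmem with h | h
  · exact Or.inl ⟨_, h, hval⟩
  · refine Or.inr ⟨_, h, ?_⟩
    show ((z * (u * w' * u⁻¹ * w'⁻¹) : C) : G) = _
    push_cast [← hval]
    rfl

/-- A member of the odd part centralising `a` fixes the common neighbours. -/
theorem odd_fix_common (ha : a ∈ D) (hb : b ∈ perp D a) {u : G} (hu : u ∈ oddPart (a * b)) (hua : Commute u a)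
    {s : G} (hs : s ∈ perp D a ∩ perp D b) : Commute u s := by
  classical
  obtain ⟨hsa, hsb⟩ := hs
  have hub : Commute u b := by
    have : b = a * (a * b) := by rw [← mul_assoc, S.sq a ha, one_mul]
    rw [this]
    exact hua.mul_right (oddPart_commute hu)
  let N : Subgroup G := oddPart (a * b) ⊓ Subgroup.centralizer ({a} : Set G)
  have hNodd : ∀ x ∈ N, Odd (orderOf x) := fun x hx => oddPart_odd hx.1
  have hNconj : ∀ e ∈ perp D a ∩ perp D b, ∀ x ∈ N, e * x * e ∈ N := by
    intro e he x hx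
    have hei := S.inv_eq he.1.1
    refine ⟨by simpa [hei] using oddPart_conj (he.1.2.2.symm.mul_right he.2.2.2.symm) hx.1,
      Subgroup.mem_centralizer_singleton_iff.2 ?_⟩
    exact ((he.1.2.2.symm.mul_left (Subgroup.mem_centralizer_singleton_iff.1 hx.2)).mul_left he.1.2.2.symm).eq
  have huN : u ∈ N := ⟨hu, Subgroup.mem_centralizer_singleton_iff.2 hua⟩
  have hsD := hsa.1
  obtain ⟨t, ht⟩ : ∃ t, t = u * s * u⁻¹ := ⟨_, rfl⟩
  have htD : t ∈ D := ht ▸ S.conj u s hsD
  have hta : Commute t a := by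
    rw [ht]; exact ((hua.mul_left hsa.2.2.symm).mul_left hua.inv_left)
  have htb : Commute t b := by
    rw [ht]; exact ((hub.mul_left hsb.2.2.symm).mul_left hub.inv_left)
  have hv : t * s ∈ N := by
    have h1 := N.mul_mem huN (hNconj s ⟨hsa, hsb⟩ _ (N.inv_mem huN))
    rwa [show u * (s * u⁻¹ * s) = t * s by rw [ht]; simp only [mul_assoc]] at h1
  show u * s = s * u
  by_contra hns
  have hts : t ≠ s := fun e => hns (mul_inv_eq_iff_eq_mul.1 (ht.symm.trans e))
  have hnc : ¬ Commute t s := fun hc => hts (by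
    have h2 := eq_one_of_odd (hNodd _ hv) (by
      rw [hc.symm.mul_mul_mul_comm, S.sq t htD, S.sq s hsD, one_mul])
    rw [eq_inv_of_mul_eq_one_left h2, S.inv_eq hsD])
  obtain ⟨l, hl, hsl⟩ := S.exists_quad ha hb ⟨hsa, hsb⟩
  obtain ⟨e, hel, hes⟩ : ∃ e ∈ l.erase s, ¬ Commute t e := by
    by_contra h
    push Not at h
    refine hnc ?_
    have hp := (hl.perm (List.perm_cons_erase hsl)).2.2.2.2
    rw [List.prod_cons] at hp
    have hk : s = a * b * (l.erase s).prod⁻¹ := by rw [← hp, mul_inv_cancel_right]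
    rw [hk]
    exact (hta.mul_right htb).mul_right (Commute.list_prod_right _ _ fun x hx => h x hx).inv_right
  have hel' : e ∈ l := List.mem_of_mem_erase hel
  obtain ⟨hea, heb⟩ := hl.2.2.1 e hel'
  have hse : Commute s e := hl.2.2.2.1 s hsl e hel'
  have hsne : s ≠ e := fun h => (hl.1.not_mem_erase) (h ▸ hel)
  have hbr : t * e * t = e * t * e := S.braid ha htD hta hea.1 hea.2.2.symm hes
  have hw := N.mul_mem (hNconj e ⟨hea, heb⟩ _ hv) (N.inv_mem hv)
  have e1 : e * (t * s) * e * (t * s)⁻¹ = t * e := by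
    rw [mul_inv_rev, S.inv_eq hsD, S.inv_eq htD]
    calc e * (t * s) * e * (s * t) = e * t * ((s * e) * s) * t := by simp only [mul_assoc]
      _ = e * t * e * t := by rw [hse.eq, mul_assoc e s s, S.sq s hsD, mul_one]
      _ = t * e * t * t := by rw [← hbr]
      _ = t * e := by rw [mul_assoc (t * e), S.sq t htD, mul_one]
  rw [e1] at hw
  have hes2 := N.mul_mem (N.inv_mem hw) hv
  rw [mul_inv_rev, S.inv_eq htD, S.inv_eq hea.1, show e * t * (t * s) = e * (t * t) * s by simp only [mul_assoc],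
    S.sq t htD, mul_one] at hes2
  exact S.mul_ne_one hea.1 hsne.symm (eq_one_of_odd (hNodd _ hes2) (by
    rw [hse.mul_mul_mul_comm, S.sq e hea.1, S.sq s hsD, one_mul]))

/-- Two neighbours have a common neighbour. -/
theorem exists_common (ha : a ∈ D) {p q : G} (hp : p ∈ perp D a) (hq : q ∈ perp D a) (hpq : ¬ Commute p q) :
    ∃ y ∈ perp D a, Commute p y ∧ Commute q y := by
  by_contra h
  push Not at h
  obtain ⟨U⟩ := S.exists_udata ha
  have hK := fourField hF
  have hS := hB_isSymm hF 6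
  have hB' := hB_nondegenerate hF 6
  have h5 : 5 ≤ finrank F (Fin 6 → F) := by rw [finrank_fin_fun]; norm_num
  have hne : hB hF 6 (U.c p) (U.c q) ≠ 0 := fun e => hpq ((U.comm p hp q hq).2 e)
  have key : ∀ r ∈ perp D a, r ≠ p → r ≠ q →
      ∃ k : F, U.c r = k • (U.c p + (hB hF 6 (U.c p) (U.c q))⁻¹ • U.c q) := by
    intro r hr hrp hrq
    have hside : ∀ s, hB hF 6 s s = 0 → s ≠ 0 → hB hF 6 (U.c p) s = 0 → hB hF 6 (U.c q) s = 0 →
        hB hF 6 (U.c r) s = 0 := fun s hs hs0 h1 h2 => by
      obtain ⟨y, hy, k, hk, hc⟩ := U.every s hs hs0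
      exact absurd ((U.comm q hq y hy).2 (by rw [hc, map_smul, h2, smul_zero]))
        (h y hy ((U.comm p hp y hy).2 (by rw [hc, map_smul, h1, smul_zero])))
    rcases Linear.hyperbolic_third hK hS hB' h5 (U.iso p hp) (U.iso q hq) hne (U.iso r hr) hside with
      ⟨k, hk⟩ | ⟨k, hk⟩ | hk
    · exact absurd (U.inj p hp r hr k hk).symm hrp
    · exact absurd (U.inj q hq r hr k hk).symm hrq
    · exact hk
  have hsub : (perp D a \ {p, q}).Subsingleton := by
    rintro r ⟨hr, hr'⟩ r' ⟨hr₂, hr₂'⟩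
    simp only [Set.mem_insert_iff, Set.mem_singleton_iff, not_or] at hr' hr₂'
    obtain ⟨k, hk⟩ := key r hr hr'.1 hr'.2
    obtain ⟨k', hk'⟩ := key r' hr₂ hr₂'.1 hr₂'.2
    have hk0 : k ≠ 0 := fun e => U.ne r hr (by rw [hk, e, zero_smul])
    exact U.inj r hr r' hr₂ (k' * k⁻¹) (by rw [hk', hk, smul_smul, mul_assoc, inv_mul_cancel₀ hk0, mul_one])
  have h1 := Set.ncard_le_one_iff_subsingleton.2 hsub
  have h2 := Set.ncard_diff_add_ncard (perp D a) {p, q}
  have h3 := Set.ncard_le_ncard (Set.subset_union_left : perp D a ⊆ perp D a ∪ {p, q}) (Set.toFinite _)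
  have h4 : ({p, q} : Set G).ncard ≤ 2 := Set.ncard_insert_le _ _ |>.trans (by rw [Set.ncard_singleton])
  rw [S.card_perp ha] at h3
  omega

/-- The odd part meets the centraliser of `a` trivially. -/
theorem odd_meet (ha : a ∈ D) (hb : b ∈ perp D a) {u : G} (hu : u ∈ oddPart (a * b)) (hua : Commute u a) :
    u = 1 := by
  have hub : Commute u b := by
    have : b = a * (a * b) := by rw [← mul_assoc, S.sq a ha, one_mul]
    rw [this]
    exact hua.mul_right (oddPart_commute hu)
  obtain ⟨U⟩ := S.exists_udata ha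
  have hK := fourField hF
  have hS := hB_isSymm hF 6
  have hB' := hB_nondegenerate hF 6
  have h5 : 5 ≤ finrank F (Fin 6 → F) := by rw [finrank_fin_fun]; norm_num
  have hodd := oddPart_odd hu
  have hall : ∀ y ∈ perp D a, Commute u y := by
    intro y hy
    by_cases hyb : y = b
    · rwa [hyb]
    by_cases hc : Commute b y
    · exact S.odd_fix_common ha hb hu hua ⟨hy, hy.1, hyb, hc⟩
    obtain ⟨v, hv⟩ : ∃ v : F, v = hB hF 6 (U.c y) (U.c b) := ⟨_, rfl⟩
    have hne : hB hF 6 (U.c y) (U.c b) ≠ 0 := fun e => hc ((U.comm y hy b hb).2 e).symm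
    let σ : G → G := fun r => u * r * u⁻¹
    have hmem : ∀ r ∈ perp D a, σ r ∈ perp D a := fun r hr => by
      have := S.perp_conj (g := u) hr
      rwa [hua.eq, mul_inv_cancel_right] at this
    have hσb : σ b = b := by show u * b * u⁻¹ = b; rw [hub.eq, mul_inv_cancel_right]
    have key : ∀ r ∈ perp D a, ¬ Commute b r → (∀ e ∈ perp D a, Commute y e → Commute b e → Commute r e) →
        r = y ∨ ∃ k : F, U.c r = k • (U.c y + v⁻¹ • U.c b) := by
      intro r hr hbr hr2
      have hside : ∀ s, hB hF 6 s s = 0 → s ≠ 0 → hB hF 6 (U.c y) s = 0 → hB hF 6 (U.c b) s = 0 →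
          hB hF 6 (U.c r) s = 0 := fun s hs hs0 h1 h2 => by
        obtain ⟨e, he, k, hk, hce⟩ := U.every s hs hs0
        have := (U.comm r hr e he).1 (hr2 e he ((U.comm y hy e he).2 (by rw [hce, map_smul, h1, smul_zero]))
          ((U.comm b hb e he).2 (by rw [hce, map_smul, h2, smul_zero])))
        rw [hce, map_smul, smul_eq_mul] at this
        exact (mul_eq_zero.1 this).resolve_left hk
      rcases Linear.hyperbolic_third hK hS hB' h5 (U.iso y hy) (U.iso b hb) hne (U.iso r hr) hside with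
        ⟨k, hk⟩ | ⟨k, hk⟩ | hk
      · exact Or.inl (U.inj y hy r hr k hk).symm
      · exact absurd (U.inj b hb r hr k hk ▸ Commute.refl b) hbr
      · exact Or.inr (hv ▸ hk)
    have hstep : ∀ r ∈ perp D a, ¬ Commute b r → (∀ e ∈ perp D a, Commute y e → Commute b e → Commute r e) →
        ¬ Commute b (σ r) ∧ ∀ e ∈ perp D a, Commute y e → Commute b e → Commute (σ r) e := by
      intro r hr hbr hr2
      refine ⟨fun h => hbr ((Commute.conj_iff u).1 (by rw [show u * b * u⁻¹ = b from hσb]; exact h)),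
        fun e he hye hbe => ?_⟩
      by_cases heb : e = b
      · subst heb; exact absurd hye fun h => hc h.symm
      have hue : Commute u e := S.odd_fix_common ha hb hu hua ⟨he, he.1, heb, hbe⟩
      have := (Commute.conj_iff u).2 (hr2 e he hye hbe)
      rwa [show u * e * u⁻¹ = e by rw [hue.eq, mul_inv_cancel_right]] at this
    have hy2 : ∀ e ∈ perp D a, Commute y e → Commute b e → Commute y e := fun _ _ h _ => h
    obtain ⟨h1b, h1c⟩ := hstep y hy hc hy2
    obtain ⟨h2b, h2c⟩ := hstep _ (hmem y hy) h1b h1c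
    have hcomm : ∀ r, σ r = r → Commute u r := fun r h => mul_inv_eq_iff_eq_mul.1 h
    rcases key _ (hmem y hy) h1b h1c with h | ⟨k, hk⟩
    · exact hcomm y h
    have h2 : σ (σ y) = y := by
      rcases key _ (hmem _ (hmem y hy)) h2b h2c with h | ⟨k', hk'⟩
      · exact h
      · have hk0 : k ≠ 0 := fun e => U.ne _ (hmem y hy) (by rw [hk, e, zero_smul])
        have e1 : σ y = σ (σ y) := U.inj _ (hmem y hy) _ (hmem _ (hmem y hy)) (k' * k⁻¹)
          (by rw [hk', hk, smul_smul, mul_assoc, inv_mul_cancel₀ hk0, mul_one])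
        have e2 : y = σ y := mul_left_cancel (mul_right_cancel e1)
        rw [← e2, ← e2]
    obtain ⟨m, hm⟩ := hodd
    have huu : Commute (u * u) y := by
      refine mul_inv_eq_iff_eq_mul.1 ?_
      calc u * u * y * (u * u)⁻¹ = σ (σ y) := by simp only [σ]; group
        _ = y := h2
    have : u = ((u * u) ^ m)⁻¹ := by
      rw [← pow_two, ← pow_mul]
      exact eq_inv_of_mul_eq_one_right (by rw [← pow_succ, ← hm, pow_orderOf_eq_one])
    rw [this]
    exact (huu.pow_left m).inv_left
  rcases S.eq_or_eq ha hua hall with h | h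
  · exact h
  · exact eq_one_of_odd hodd (h ▸ S.sq a ha)

theorem odd_inverted (ha : a ∈ D) (hb : b ∈ perp D a) {x : G} (hx : x ∈ oddPart (a * b)) :
    a * x * a = x⁻¹ ∧ b * x * b = x⁻¹ := by
  have h1 := oddPart_inverts (S.sq a ha) ((Commute.refl a).mul_right hb.2.2)
    (fun y hy hc => S.odd_meet ha hb hy hc) hx
  refine ⟨h1, ?_⟩
  have hb' : b = a * (a * b) := by rw [← mul_assoc, S.sq a ha, one_mul]
  have hc := oddPart_commute hx
  calc b * x * b = a * (a * b) * x * (a * (a * b)) := by rw [← hb']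
    _ = a * ((a * b) * x) * (a * (a * b)) := by simp only [mul_assoc]
    _ = a * x * ((a * b) * a) * (a * b) := by rw [← hc.eq]; simp only [mul_assoc]
    _ = a * x * a * ((a * b) * (a * b)) := by rw [((Commute.refl a).mul_left hb.2.2.symm).eq]; simp only [mul_assoc]
    _ = x⁻¹ := by rw [S.pair_sq ha hb, mul_one, h1]

/-- Every common neighbour inverts the odd part. -/
theorem odd_inverted_common (ha : a ∈ D) (hb : b ∈ perp D a) {e : G} (he : e ∈ perp D a ∩ perp D b) {x : G}
    (hx : x ∈ oddPart (a * b)) : e * x * e = x⁻¹ := by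
  refine oddPart_inverts (S.sq e he.1.1) (he.1.2.2.symm.mul_right he.2.2.2.symm) (fun y hy hc => ?_) hx
  have hcz : Commute (y * a * y⁻¹) (a * b) :=
    ((oddPart_commute hy).mul_left ((Commute.refl a).mul_right hb.2.2)).mul_left (oddPart_commute hy).inv_left
  have hce : Commute (y * a * y⁻¹) e := (hc.mul_left he.1.2.2).mul_left hc.inv_left
  have hca := S.pair_commute he.1.1 (S.conj y a ha) hce ha he.1.2.2 hb.1 he.2.2.2 hb.2.2 hb.2.1.symm hcz
  have e2 : y * a * y⁻¹ * a = y * y := by
    have h := (S.odd_inverted ha hb (Subgroup.inv_mem _ hy)).1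
    rw [inv_inv] at h
    rw [mul_assoc y a, mul_assoc y, h]
  have : y * y = 1 := by
    refine eq_one_of_odd ((oddPart_odd (Subgroup.mul_mem _ hy hy))) ?_
    rw [← e2, hca.symm.mul_mul_mul_comm, S.sq a ha, S.sq _ (S.conj y a ha), one_mul]
  exact eq_one_of_odd (oddPart_odd hy) this

theorem odd_le (ha : a ∈ D) (hb : b ∈ perp D a) {e : G} (he : e ∈ perp D a ∩ perp D b) :
    oddPart (a * b) ≤ oddPart (a * e) := by
  intro x hx
  have hea := (S.odd_inverted ha hb hx).1
  have hee := S.odd_inverted_common ha hb he hx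
  have hxz : Commute x (a * e) := by
    show x * (a * e) = a * e * x
    have h1 : x * a = a * x⁻¹ := by rw [← hea, ← mul_assoc, ← mul_assoc, S.sq a ha, one_mul]
    have h2 : x⁻¹ * e = e * x := by rw [← hee, mul_assoc, S.sq e he.1.1, mul_one]
    rw [← mul_assoc, h1, mul_assoc, h2, ← mul_assoc]
  have heq : a * (x * a * x⁻¹) = x⁻¹ * x⁻¹ := by rw [← mul_assoc, ← mul_assoc, hea]
  obtain ⟨m, hm⟩ := oddPart_odd hx
  have hxx : x⁻¹ * x⁻¹ ∈ oddPart (a * e) := by
    rcases S.zstar ha he.1 hxz with h | h <;> rw [heq] at h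
    · exact h
    exfalso
    have hcard := oddPart_card (a * e)
    have h1 : (a * e * (x⁻¹ * x⁻¹)) ^ (Nat.card (oddPart (a * e))) = 1 :=
      orderOf_dvd_iff_pow_eq_one.1 (Subgroup.orderOf_dvd_natCard _ h)
    obtain ⟨j, hj⟩ := hcard
    have hcom : Commute (a * e) (x⁻¹ * x⁻¹) := hxz.symm.inv_right.mul_right hxz.symm.inv_right
    have h2 := congrArg (fun y : G => y ^ orderOf x) h1
    simp only [one_pow] at h2
    rw [← pow_mul, hcom.mul_pow] at h2
    have h3 : (x⁻¹ * x⁻¹) ^ (Nat.card (oddPart (a * e)) * orderOf x) = 1 := by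
      rw [mul_comm, pow_mul, (Commute.refl x⁻¹).mul_pow, inv_pow, pow_orderOf_eq_one, inv_one, one_mul, one_pow]
    rw [h3, mul_one, hj, hm] at h2
    refine S.mul_ne_one ha he.1.2.1.symm ?_
    rw [show (2 * j + 1) * (2 * m + 1) = 2 * (2 * j * m + j + m) + 1 by ring, pow_succ, pow_mul, pow_two,
      S.pair_sq ha he.1, one_pow, one_mul] at h2
    exact h2
  have : x = ((x⁻¹ * x⁻¹) ^ m) := by
    rw [← pow_two, ← pow_mul, inv_pow, eq_comm]
    exact inv_eq_of_mul_eq_one_right (by rw [← pow_succ, ← hm, pow_orderOf_eq_one])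
  rw [this]
  exact Subgroup.pow_mem _ hxx m

theorem odd_independent (ha : a ∈ D) {b' : G} (hb : b ∈ perp D a) (hb' : b' ∈ perp D a) :
    oddPart (a * b) ≤ oddPart (a * b') := by
  have step : ∀ p q : G, p ∈ perp D a → q ∈ perp D a → Commute p q → oddPart (a * p) ≤ oddPart (a * q) := by
    intro p q hp hq hpq
    by_cases h : q = p
    · rw [h]
    · exact S.odd_le ha hp ⟨hq, hq.1, h, hpq⟩
  by_cases hc : Commute b b'
  · exact step b b' hb hb' hc
  obtain ⟨y, hy, h1, h2⟩ := S.exists_common ha hb hb' hc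
  exact (step b y hb hy h1).trans (step y b' hy hb' h2.symm)

/-- The odd part is trivial. -/
theorem odd_trivial (ha : a ∈ D) (hb : b ∈ perp D a) {x : G} (hx : x ∈ oddPart (a * b)) : x = 1 := by
  have hinv : ∀ y ∈ perp D a, y * x * y = x⁻¹ := fun y hy =>
    (S.odd_inverted ha hy (S.odd_independent ha hb hy hx)).2
  refine S.odd_meet ha hb hx ?_
  set C := Subgroup.closure (perp D a) with hC
  have hflip : ∀ g ∈ Subgroup.closure (perp D a), g * x * g⁻¹ = x ∨ g * x * g⁻¹ = x⁻¹ := by
    intro g hg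
    induction hg using Subgroup.closure_induction with
    | mem y hy => right; rw [S.inv_eq hy.1]; exact hinv y hy
    | one => simp
    | mul u v _ _ hu hv =>
      rw [show u * v * x * (u * v)⁻¹ = u * (v * x * v⁻¹) * u⁻¹ by group]
      rcases hv with hv | hv <;> rw [hv]
      · exact hu
      · rw [show u * x⁻¹ * u⁻¹ = (u * x * u⁻¹)⁻¹ by group]
        rcases hu with hu | hu <;> rw [hu]
        exacts [Or.inr rfl, Or.inl (inv_inv x)]
    | inv u _ hu =>
      rcases hu with hu | hu
      · left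
        calc u⁻¹ * x * u⁻¹⁻¹ = u⁻¹ * (u * x * u⁻¹) * u := by rw [hu, inv_inv]
          _ = x := by group
      · right
        calc u⁻¹ * x * u⁻¹⁻¹ = u⁻¹ * (x⁻¹)⁻¹ * u := by rw [inv_inv, inv_inv]
          _ = u⁻¹ * (u * x * u⁻¹)⁻¹ * u := by rw [hu]
          _ = x⁻¹ := by group
  have hcom : commutator C ≤ (Subgroup.centralizer ({x} : Set G)).subgroupOf C := by
    rw [commutator_def, Subgroup.commutator_le]
    intro p _ q _
    rw [Subgroup.mem_subgroupOf, Subgroup.mem_centralizer_singleton_iff]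
    have hp := hflip p p.2
    have hq := hflip q q.2
    show ((⁅p, q⁆ : C) : G) * x = x * _
    rw [← mul_inv_eq_iff_eq_mul]
    push_cast [commutatorElement_def]
    obtain ⟨u, hu⟩ : ∃ u, u = (p : G) := ⟨_, rfl⟩
    obtain ⟨v, hv⟩ : ∃ v, v = (q : G) := ⟨_, rfl⟩
    rw [← hu] at hp ⊢; rw [← hv] at hq ⊢
    have conj_inv : ∀ g : G, g * x⁻¹ * g⁻¹ = (g * x * g⁻¹)⁻¹ := fun g => by group
    have up : ∀ g : G, (g * x * g⁻¹ = x → g⁻¹ * x * g = x) ∧ (g * x * g⁻¹ = x⁻¹ → g⁻¹ * x * g = x⁻¹) := by
      intro g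
      refine ⟨fun h => ?_, fun h => ?_⟩
      · conv_lhs => rw [← h]
        group
      · calc g⁻¹ * x * g = g⁻¹ * (x⁻¹)⁻¹ * g := by rw [inv_inv]
          _ = g⁻¹ * (g * x * g⁻¹)⁻¹ * g := by rw [h]
          _ = x⁻¹ := by group
    rw [show u * v * u⁻¹ * v⁻¹ * x * (u * v * u⁻¹ * v⁻¹)⁻¹ = u * (v * (u⁻¹ * (v⁻¹ * x * v) * u) * v⁻¹) * u⁻¹ by group]
    have conj_inv' : ∀ g : G, g⁻¹ * x⁻¹ * g = (g⁻¹ * x * g)⁻¹ := fun g => by group
    rcases hq with hq' | hq' <;> rcases hp with hp' | hp' <;>
      simp only [(up v).1, (up v).2, (up u).1, (up u).2, hq', hp', conj_inv, conj_inv', inv_inv]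
  rw [Group.isPerfect_def.1 (S.closure_perp_qs ha).1] at hcom
  exact (Subgroup.mem_centralizer_singleton_iff.1
    (hcom (Subgroup.mem_top (⟨a, S.self_mem_closure ha⟩ : C)))).symm

/-- What commutes with the product of two commuting members fixes or exchanges them. -/
theorem cent_pair (ha : a ∈ D) (hb : b ∈ perp D a) {w : G} (hw : Commute w (a * b)) :
    (w * a * w⁻¹ = a ∧ w * b * w⁻¹ = b) ∨ (w * a * w⁻¹ = b ∧ w * b * w⁻¹ = a) := by
  have hz : w * a * w⁻¹ * (w * b * w⁻¹) = a * b := by
    rw [show w * a * w⁻¹ * (w * b * w⁻¹) = w * (a * b) * w⁻¹ by group, hw.eq, mul_inv_cancel_right]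
  rcases S.zstar ha hb hw with h | h
  · have e := S.odd_trivial ha hb h
    have h1 : w * a * w⁻¹ = a := (eq_inv_of_mul_eq_one_right e).trans (S.inv_eq ha)
    refine Or.inl ⟨h1, ?_⟩
    rw [h1] at hz
    exact mul_left_cancel hz
  · have e := S.odd_trivial ha hb h
    have h1 : w * a * w⁻¹ = b := by
      rw [← mul_assoc] at e
      rw [eq_inv_of_mul_eq_one_right e, mul_assoc a b, hb.2.2.symm.eq, ← mul_assoc, S.sq a ha, one_mul, S.inv_eq hb.1]
    refine Or.inr ⟨h1, ?_⟩
    rw [h1, hb.2.2.eq] at hz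
    exact mul_left_cancel hz

/-- A member commuting with the product of two commuting members commutes with each. -/
theorem member_commute_pair (ha : a ∈ D) (hb : b ∈ perp D a) {x : G} (hx : x ∈ D) (h : Commute x (a * b)) :
    Commute x a ∧ Commute x b := by
  rcases S.cent_pair ha hb h with ⟨h1, h2⟩ | ⟨h1, -⟩
  · exact ⟨mul_inv_eq_iff_eq_mul.1 h1, mul_inv_eq_iff_eq_mul.1 h2⟩
  · exact absurd (by rw [S.inv_eq hx] at h1; exact h1) (S.not_swap ha hb hx)

end Datum

end Cfsg.Lib.Fischer.FromCent
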