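import Cfsg.Agent.Lib.Fischer.FromCent.Loc

/-!
# The forty-five quads of two commuting members and the swap lemma

A quad of the commuting members `a`, `b` is a set of four further members commuting with both whose
product is `a b`. They partition the 180 common neighbours, so an involution fixing `{a, b}` fixes one.
-/

set_option autoImplicit false
set_option linter.unusedSectionVars false

namespace Cfsg.Lib.Fischer.FromCent

open Cfsg Cfsg.Lib.Fischer Cfsg.Lib.Fischer.Relations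

variable {H : Type} [Group H] [Finite H] {F : Type} [Field F] [Fintype F]
  {G : Type*} [Group G] {D : Set G} {D₀ : Set H} {a₀ : H} {hF : Fintype.card F = 2 ^ 2}

/-- Four common neighbours of `a` and `b` with product `a b`. -/
def IsQuadList (D : Set G) (a b : G) (l : List G) : Prop :=
  l.Nodup ∧ l.length = 4 ∧ (∀ x ∈ l, x ∈ perp D a ∧ x ∈ perp D b) ∧ (∀ x ∈ l, ∀ y ∈ l, Commute x y) ∧
    l.prod = a * b

/-- A quad, as a set. -/
def IsQuad (D : Set G) (a b : G) (Q : Finset G) : Prop :=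
  ∃ l, IsQuadList D a b l ∧ ∀ x, x ∈ Q ↔ x ∈ l

theorem IsQuadList.perm {a b : G} {l l' : List G} (h : IsQuadList D a b l) (hp : l.Perm l') :
    IsQuadList D a b l' :=
  ⟨hp.nodup_iff.1 h.1, hp.length_eq ▸ h.2.1, fun x hx => h.2.2.1 x (hp.mem_iff.2 hx),
    fun x hx y hy => h.2.2.2.1 x (hp.mem_iff.2 hx) y (hp.mem_iff.2 hy), by
      rw [← prod_perm hp h.2.2.2.1]; exact h.2.2.2.2⟩

/-- An involutive map of a finite set of odd size has a fixed point. -/
theorem exists_fixed_of_odd {α : Type*} [DecidableEq α] {s : Finset α} (hs : Odd s.card) (f : α → α)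
    (hf : ∀ x ∈ s, f x ∈ s) (hff : ∀ x ∈ s, f (f x) = x) : ∃ x ∈ s, f x = x := by
  classical
  let g : {x // x ∈ s} → {x // x ∈ s} := fun x => ⟨f x.1, hf _ x.2⟩
  have hg : Function.Involutive g := fun x => Subtype.ext (hff _ x.2)
  let e : Equiv.Perm {x // x ∈ s} := hg.toPerm g
  haveI : Fact (Nat.Prime 2) := ⟨Nat.prime_two⟩
  obtain ⟨x, hx⟩ := Equiv.Perm.exists_fixed_point_of_prime (n := 1) (p := 2)
    (by
      rw [Fintype.card_coe]
      exact fun h => Nat.not_even_iff_odd.2 hs (even_iff_two_dvd.2 h))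
    (σ := e) (Equiv.ext fun x => by
      rw [pow_one, pow_two, Equiv.Perm.mul_apply]
      exact hg x)
  exact ⟨x.1, x.2, congrArg Subtype.val hx⟩

namespace Datum

variable [Finite G] (S : Datum D D₀ a₀ hF) {a b : G}
include S

theorem inv_eq {x : G} (hx : x ∈ D) : x⁻¹ = x := inv_eq_of_mul_eq_one_right (S.sq x hx)

theorem perp_symm (ha : a ∈ D) (hb : b ∈ perp D a) : a ∈ perp D b := ⟨ha, hb.2.1.symm, hb.2.2.symm⟩

theorem exists_quad (ha : a ∈ D) (hb : b ∈ perp D a) {c : G} (hc : c ∈ perp D a ∩ perp D b) :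
    ∃ l, IsQuadList D a b l ∧ c ∈ l := by
  obtain ⟨e, f, g, hnd, hp, hcm, hprod, -⟩ := S.five ha hb hc.1 hc.2.2.1.symm hc.2.2.2
  refine ⟨[c, e, f, g], ⟨(List.nodup_cons.1 hnd).2, rfl, fun x hx => ?_, fun x hx y hy =>
    hcm x (List.mem_cons_of_mem _ hx) y (List.mem_cons_of_mem _ hy), ?_⟩, by simp⟩
  · have hxb : x ≠ b := fun h => (List.nodup_cons.1 hnd).1 (h ▸ hx)
    exact ⟨hp x (List.mem_cons_of_mem _ hx), (hp x (List.mem_cons_of_mem _ hx)).1, hxb,
      hcm b (by simp) x (List.mem_cons_of_mem _ hx)⟩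
  · have e1 : b * [c, e, f, g].prod = a := by rw [← List.prod_cons]; exact hprod
    calc [c, e, f, g].prod = b * (b * [c, e, f, g].prod) := by rw [← mul_assoc, S.sq b hb.1, one_mul]
      _ = a * b := by rw [e1, hb.2.2.eq]

theorem quad_unique (ha : a ∈ D) (hb : b ∈ perp D a) {c : G} {l l' : List G} (hl : IsQuadList D a b l)
    (hl' : IsQuadList D a b l') (hc : c ∈ l) (hc' : c ∈ l') : ∀ x, x ∈ l ↔ x ∈ l' := by
  classical
  obtain ⟨hca, hcb⟩ := hl.2.2.1 c hc
  obtain ⟨e, f, g, -, -, -, -, huniq⟩ := S.five ha hb hca hcb.2.1.symm hcb.2.2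
  have key : ∀ l, IsQuadList D a b l → c ∈ l → ∀ x, x ∈ l ↔ x ∈ [c, e, f, g] := by
    intro l hl hc x
    have hp := List.perm_cons_erase hc
    obtain ⟨hnd, hlen, hmem, hcm, hprod⟩ := hl.perm hp
    have hall : ∀ y ∈ b :: c :: l.erase c, y ∈ perp D a := by
      intro y hy
      rcases List.mem_cons.1 hy with rfl | hy
      exacts [hb, (hmem y hy).1]
    have hcomm : ∀ y ∈ b :: c :: l.erase c, ∀ z ∈ b :: c :: l.erase c, Commute y z := by
      intro y hy z hz
      rcases List.mem_cons.1 hy with e1 | hy <;> rcases List.mem_cons.1 hz with e2 | hz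
      · rw [e1, e2]
      · rw [e1]; exact (hmem z hz).2.2.2
      · rw [e2]; exact (hmem y hy).2.2.2.symm
      · exact hcm y hy z hz
    have := huniq (l.erase c) (by simpa using hlen)
      (List.nodup_cons.2 ⟨fun h => (hmem b h).2.2.1 rfl, hnd⟩) hall hcomm
      (by rw [List.prod_cons, hprod, hb.2.2.eq, ← mul_assoc, S.sq b hb.1, one_mul]) x
    rw [hp.mem_iff, List.mem_cons, List.mem_cons, this]
  exact fun x => (key l hl hc x).trans (key l' hl' hc' x).symm

/-- An involution fixing `{a, b}` fixes a quad. -/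
theorem fixed_quad (ha : a ∈ D) (hb : b ∈ perp D a) {k : G} (hk : k * k = 1)
    (hkab : (k * a * k⁻¹ = a ∧ k * b * k⁻¹ = b) ∨ (k * a * k⁻¹ = b ∧ k * b * k⁻¹ = a)) :
    ∃ l, IsQuadList D a b l ∧ ∀ x, x ∈ l → k * x * k⁻¹ ∈ l := by
  classical
  have := Fintype.ofFinite G
  let Ω : Finset (Finset G) := Finset.univ.filter fun Q => IsQuad D a b Q
  have hQcard : ∀ Q ∈ Ω, Q.card = 4 := by
    intro Q hQ
    obtain ⟨l, hl, hmem⟩ := (Finset.mem_filter.1 hQ).2
    rw [show Q = l.toFinset from Finset.ext fun x => by rw [hmem, List.mem_toFinset],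
      List.toFinset_card_of_nodup hl.1, hl.2.1]
  have hdis : ((Ω : Set (Finset G))).PairwiseDisjoint id := by
    intro Q hQ Q' hQ' hne
    rw [Function.onFun, id, id, Finset.disjoint_left]
    intro c hc hc'
    obtain ⟨l, hl, hmem⟩ := (Finset.mem_filter.1 hQ).2
    obtain ⟨l', hl', hmem'⟩ := (Finset.mem_filter.1 hQ').2
    exact hne (Finset.ext fun x => by
      rw [hmem, hmem', S.quad_unique ha hb hl hl' ((hmem c).1 hc) ((hmem' c).1 hc') x])
  have hunion : ((Ω.biUnion id : Finset G) : Set G) = perp D a ∩ perp D b := by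
    ext x
    simp only [Finset.coe_biUnion, Finset.mem_coe, Set.mem_iUnion, id, exists_prop]
    constructor
    · rintro ⟨Q, hQ, hx⟩
      obtain ⟨l, hl, hmem⟩ := (Finset.mem_filter.1 hQ).2
      exact hl.2.2.1 x ((hmem x).1 hx)
    · intro hx
      obtain ⟨l, hl, hxl⟩ := S.exists_quad ha hb hx
      exact ⟨l.toFinset, Finset.mem_filter.2 ⟨Finset.mem_univ _, l, hl, fun _ => List.mem_toFinset⟩,
        List.mem_toFinset.2 hxl⟩
  have hsize : (Ω.biUnion id).card = 180 := by
    rw [← Set.ncard_coe_finset, hunion]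
    exact S.card_common ha hb
  rw [Finset.card_biUnion hdis, Finset.sum_congr rfl fun Q hQ => show (id Q).card = 4 from hQcard Q hQ,
    Finset.sum_const, smul_eq_mul] at hsize
  have hodd : Odd Ω.card := ⟨22, by omega⟩
  let σ : G → G := fun x => k * x * k⁻¹
  have hσσ : ∀ x, σ (σ x) = x := fun x => by
    calc σ (σ x) = (k * k) * x * (k * k)⁻¹ := by simp only [σ]; group
      _ = x := by rw [hk]; group
  have hmap : ∀ l, IsQuadList D a b l → IsQuadList D a b (l.map σ) := by
    intro l hl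
    refine ⟨hl.1.map (Function.LeftInverse.injective hσσ), by rw [List.length_map, hl.2.1], ?_, ?_, ?_⟩
    · intro y hy
      obtain ⟨x, hx, rfl⟩ := List.mem_map.1 hy
      have h1 := S.perp_conj (g := k) (hl.2.2.1 x hx).1
      have h2 := S.perp_conj (g := k) (hl.2.2.1 x hx).2
      rcases hkab with ⟨e1, e2⟩ | ⟨e1, e2⟩ <;> rw [e1] at h1 <;> rw [e2] at h2
      exacts [⟨h1, h2⟩, ⟨h2, h1⟩]
    · intro y hy z hz
      obtain ⟨x, hx, rfl⟩ := List.mem_map.1 hy
      obtain ⟨x', hx', rfl⟩ := List.mem_map.1 hz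
      exact (Commute.conj_iff k).2 (hl.2.2.2.1 x hx x' hx')
    · have e : (l.map σ).prod = k * l.prod * k⁻¹ := (map_list_prod (MulAut.conj k).toMonoidHom l).symm
      rw [e, hl.2.2.2.2, show k * (a * b) * k⁻¹ = k * a * k⁻¹ * (k * b * k⁻¹) by group]
      rcases hkab with ⟨e1, e2⟩ | ⟨e1, e2⟩ <;> rw [e1, e2]
      exact hb.2.2.eq.symm
  obtain ⟨Q, hQ, hfix⟩ := exists_fixed_of_odd hodd (fun Q => Q.image σ)
    (fun Q hQ => by
      obtain ⟨l, hl, hmem⟩ := (Finset.mem_filter.1 hQ).2
      exact Finset.mem_filter.2 ⟨Finset.mem_univ _, l.map σ, hmap l hl, fun x => by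
        simp only [Finset.mem_image, List.mem_map, hmem]⟩)
    (fun Q _ => by
      rw [Finset.image_image]
      exact (Finset.image_congr fun x _ => hσσ x).trans Finset.image_id)
  obtain ⟨l, hl, hmem⟩ := (Finset.mem_filter.1 hQ).2
  refine ⟨l, hl, fun x hx => (hmem _).1 ?_⟩
  rw [← hfix]
  exact Finset.mem_image_of_mem σ ((hmem x).2 hx)

/-- An involution on a quad without fixed member pairs it. -/
theorem split_four {k : G} (hk : k * k = 1) {l : List G} (hnd : l.Nodup) (hlen : l.length = 4)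
    (hmap : ∀ x ∈ l, k * x * k⁻¹ ∈ l) :
    (∃ e ∈ l, Commute k e) ∨
      ∃ e₁ e₂ e₃ e₄, l.Perm [e₁, e₂, e₃, e₄] ∧ k * e₁ * k⁻¹ = e₂ ∧ k * e₃ * k⁻¹ = e₄ := by
  classical
  by_cases hex : ∃ e ∈ l, Commute k e
  · exact Or.inl hex
  push Not at hex
  have hne : ∀ e ∈ l, k * e * k⁻¹ ≠ e := fun e he h => hex e he (mul_inv_eq_iff_eq_mul.1 h)
  have hσσ : ∀ x, k * (k * x * k⁻¹) * k⁻¹ = x := fun x => by
    calc k * (k * x * k⁻¹) * k⁻¹ = (k * k) * x * (k * k)⁻¹ := by group
      _ = x := by rw [hk]; group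
  match l, hlen with
  | [p, q, r, s], _ =>
    refine Or.inr ?_
    have hp := hmap p (by simp)
    have hpp := hne p (by simp)
    simp only [List.mem_cons, List.not_mem_nil, or_false] at hp
    obtain ⟨u, v, hperm, hu⟩ : ∃ u v, [p, q, r, s].Perm [p, k * p * k⁻¹, u, v] ∧ u ∈ [p, q, r, s] := by
      rcases hp with h | h | h | h
      · exact absurd h hpp
      · exact ⟨r, s, by rw [h], by simp⟩
      · exact ⟨q, s, by rw [h]; exact (List.Perm.swap _ _ _).cons p, by simp⟩
      · exact ⟨q, r, by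
          rw [h]
          exact ((List.Perm.cons q (List.Perm.swap s r [])).trans (List.Perm.swap s q [r])).cons p, by simp⟩
    refine ⟨p, k * p * k⁻¹, u, v, hperm, rfl, ?_⟩
    have hu' := hperm.mem_iff.1 (hmap u hu)
    have hnd' := hperm.nodup_iff.1 hnd
    simp only [List.nodup_cons, List.mem_cons, List.not_mem_nil, or_false, not_or] at hnd'
    simp only [List.mem_cons, List.not_mem_nil, or_false] at hu'
    rcases hu' with h | h | h | h
    · exact absurd (show k * p * k⁻¹ = u by rw [← h, hσσ]) hnd'.2.1.1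
    · exact absurd (mul_left_cancel (mul_right_cancel h)).symm hnd'.1.2.1
    · exact absurd h (hne u hu)
    · exact h

/-- A member exchanging `r` and `s` gives two further members. -/
theorem flip_mem {x r s : G} (hx : x ∈ D) (hr : r ∈ D) (hs : s ∈ D) (hrs : Commute r s) (h : x * r * x = s) :
    x * (r * s) ∈ D ∧ Commute x (r * s) := by
  have h' : x * s * x = r := by
    rw [← h]
    calc x * (x * r * x) * x = (x * x) * r * (x * x) := by simp only [mul_assoc]
      _ = r := by rw [S.sq x hx, one_mul, mul_one]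
  have hc : Commute x (r * s) := by
    show x * (r * s) = r * s * x
    have : x * (r * s) * x = r * s := by
      calc x * (r * s) * x = x * r * (x * x) * s * x := by rw [S.sq x hx, mul_one]; simp only [mul_assoc]
        _ = x * r * x * (x * s * x) := by simp only [mul_assoc]
        _ = r * s := by rw [h, h', hrs.eq]
    calc x * (r * s) = x * (r * s) * (x * x) := by rw [S.sq x hx, mul_one]
      _ = x * (r * s) * x * x := by simp only [mul_assoc]
      _ = r * s * x := by rw [this]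
  refine ⟨?_, hc⟩
  have e : r * x * r⁻¹ = x * (r * s) := by
    rw [S.inv_eq hr]
    calc r * x * r = (x * x) * (r * x * r) := by rw [S.sq x hx, one_mul]
      _ = x * (x * r * x) * r := by simp only [mul_assoc]
      _ = x * (r * s) := by rw [h, mul_assoc, hrs.eq]
  exact e ▸ S.conj r x hx

/-- A product of two commuting members is a pair of distinct members or trivial. -/
theorem mul_ne_one {r s : G} (hr : r ∈ D) (hne : r ≠ s) : r * s ≠ 1 := fun h =>
  hne (by rw [← S.inv_eq hr]; exact inv_eq_of_mul_eq_one_right h)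

/-- No member carries one of two commuting members to the other. -/
theorem not_swap (ha : a ∈ D) (hb : b ∈ perp D a) {x : G} (hx : x ∈ D) : x * a * x ≠ b := by
  intro h
  have hk : x * x = 1 := S.sq x hx
  have hxi := S.inv_eq hx
  have h' : x * b * x = a := by
    rw [← h]
    calc x * (x * a * x) * x = (x * x) * a * (x * x) := by simp only [mul_assoc]
      _ = a := by rw [hk, one_mul, mul_one]
  obtain ⟨l, hl, hfix⟩ := S.fixed_quad ha hb hk (Or.inr ⟨by rw [hxi]; exact h, by rw [hxi]; exact h'⟩)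
  rcases S.split_four hk hl.1 hl.2.1 hfix with ⟨e, he, hxe⟩ | ⟨e₁, e₂, e₃, e₄, hperm, h12, h34⟩
  · obtain ⟨hea, heb⟩ := hl.2.2.1 e he
    exact S.no_flip hea.1 hx hxe ha hea.2.2 hb.2.2 hb.2.1.symm h
  obtain ⟨hnd, -, hmem, hcm, hprod⟩ := hl.perm hperm
  rw [hxi] at h12 h34
  obtain ⟨he1, he2, he3, he4⟩ : e₁ ∈ D ∧ e₂ ∈ D ∧ e₃ ∈ D ∧ e₄ ∈ D :=
    ⟨(hmem _ (by simp)).1.1, (hmem _ (by simp)).1.1, (hmem _ (by simp)).1.1, (hmem _ (by simp)).1.1⟩
  have c12 := hcm e₁ (by simp) e₂ (by simp)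
  have c34 := hcm e₃ (by simp) e₄ (by simp)
  obtain ⟨hy1, hc1⟩ := S.flip_mem hx ha hb.1 hb.2.2 h
  obtain ⟨hy2, hc2⟩ := S.flip_mem hx he1 he2 c12 h12
  obtain ⟨hy3, hc3⟩ := S.flip_mem hx he3 he4 c34 h34
  simp only [List.nodup_cons, List.mem_cons, List.not_mem_nil, or_false, not_or, List.nodup_nil,
    and_true, not_false_eq_true] at hnd
  obtain ⟨⟨n12, -, -⟩, -, n34⟩ := hnd
  have hu2 := S.mul_ne_one he1 n12
  have hu3 := S.mul_ne_one he3 n34
  have hab := S.mul_ne_one ha hb.2.1.symm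
  have hprod' : e₁ * e₂ * (e₃ * e₄) = a * b := by
    rw [← hprod]; simp [mul_assoc]
  obtain ⟨p, hp⟩ : ∃ p, p = a * b := ⟨_, rfl⟩
  obtain ⟨u, hu⟩ : ∃ u, u = e₁ * e₂ := ⟨_, rfl⟩
  obtain ⟨v, hv⟩ : ∃ v, v = e₃ * e₄ := ⟨_, rfl⟩
  rw [← hp] at hy1 hc1 hab hprod'
  rw [← hu] at hy2 hc2 hu2 hprod'
  rw [← hv] at hy3 hc3 hu3 hprod'
  have hcu : Commute p u := by
    rw [hp, hu]
    exact ((hmem e₁ (by simp)).1.2.2.mul_left (hmem e₁ (by simp)).2.2.2).mul_right
      ((hmem e₂ (by simp)).1.2.2.mul_left (hmem e₂ (by simp)).2.2.2)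
  have hcv : Commute p v := by
    rw [hp, hv]
    exact ((hmem e₃ (by simp)).1.2.2.mul_left (hmem e₃ (by simp)).2.2.2).mul_right
      ((hmem e₄ (by simp)).1.2.2.mul_left (hmem e₄ (by simp)).2.2.2)
  have huv : Commute u v := by
    rw [hu, hv]
    exact ((hcm e₁ (by simp) e₃ (by simp)).mul_left (hcm e₂ (by simp) e₃ (by simp))).mul_right
      ((hcm e₁ (by simp) e₄ (by simp)).mul_left (hcm e₂ (by simp) e₄ (by simp)))
  have hp2 : p * p = 1 := by
    rw [hp, hb.2.2.symm.mul_mul_mul_comm, S.sq a ha, S.sq b hb.1, one_mul]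
  have hn : [x, x * p, x * u, x * v].Nodup := by
    simp only [List.nodup_cons, List.mem_cons, List.not_mem_nil, or_false, not_or, List.nodup_nil,
      and_true, not_false_eq_true, left_eq_mul, mul_right_inj]
    refine ⟨⟨hab, hu2, hu3⟩, ⟨fun e => hu3 ?_, fun e => hu2 ?_⟩, fun e => hab ?_⟩
    · exact mul_eq_left.1 (hprod'.trans e)
    · exact mul_eq_right.1 (hprod'.trans e)
    · subst e
      have e2 : u * u = 1 := by rw [hu, c12.symm.mul_mul_mul_comm, S.sq _ he1, S.sq _ he2, one_mul]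
      rw [← hprod', e2]
  have hc : ∀ y ∈ [x, x * p, x * u, x * v], ∀ z ∈ [x, x * p, x * u, x * v], Commute y z := by
    have base : ∀ q ∈ [p, u, v], Commute x q := by simp [hc1, hc2, hc3]
    have pw : ∀ q ∈ [p, u, v], ∀ q' ∈ [p, u, v], Commute q q' := by
      simp [hcu, hcv, huv, hcu.symm, hcv.symm, huv.symm]
    have mix : ∀ q ∈ [p, u, v], Commute x (x * q) := fun q hq => (Commute.refl x).mul_right (base q hq)
    have mix2 : ∀ q ∈ [p, u, v], ∀ q' ∈ [p, u, v], Commute (x * q) (x * q') := fun q hq q' hq' =>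
      ((mix q' hq').mul_left ((base q hq).symm.mul_right (pw q hq q' hq')))
    intro y hy z hz
    simp only [List.mem_cons, List.not_mem_nil, or_false] at hy hz
    rcases hy with rfl | rfl | rfl | rfl <;> rcases hz with rfl | rfl | rfl | rfl <;>
      first
      | exact Commute.refl _
      | exact mix _ (by simp)
      | exact (mix _ (by simp)).symm
      | exact mix2 _ (by simp) _ (by simp)
  have hone : [x, x * p, x * u, x * v].prod = 1 := by
    simp only [List.prod_cons, List.prod_nil, mul_one]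
    calc x * (x * p * (x * u * (x * v))) = (x * x) * p * ((x * u) * x) * v := by simp only [mul_assoc]
      _ = p * ((u * x) * x) * v := by rw [hk, one_mul, hc2.eq]
      _ = p * (u * v) := by rw [mul_assoc u x x, hk, mul_one, mul_assoc]
      _ = 1 := by rw [hprod', hp2]
  exact absurd (S.no_one hx hn (by simp [hx, hy1, hy2, hy3])
    (fun y hy => hc y hy x (by simp)) hc hone (by simp)) (by simp)

end Datum

end Cfsg.Lib.Fischer.FromCent
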