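import Cfsg.Agent.Lib.Fischer.FromCent.Class
import Cfsg.Agent.Lib.Fischer.Fi22Type.Main
import Cfsg.Agent.Lib.Fischer.Relations.Centralizer.Main
import Cfsg.Agent.Lib.Fischer.Relations.Centralizer.Triples
import Cfsg.Agent.Lib.CosetEnum.U62Double.Centralizer
import Cfsg.Agent.Lib.CosetEnum.Fi22Cent.Transfer
import Cfsg.Agent.Lib.Core.Layer
import Cfsg.Agent.S5452

/-!
# The hypotheses of the class from a transposition centraliser

The centraliser is that of a transposition of Fi22, and there the conjugates of the involution are the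
transpositions: both meet the base in the same twenty-two members.
-/

set_option autoImplicit false
set_option linter.unusedSectionVars false
set_option maxRecDepth 100000

namespace Cfsg.Lib.Fischer.FromCent

open Cfsg Cfsg.Lib.Fischer Cfsg.Lib.Fischer.Relations Cfsg.Lib.Fischer.Fi22Recog
open Cfsg.Lib.CosetEnum Cfsg.Lib.Linear.Herm Cfsg.Agent.S1631 Cfsg.Lib.Fischer.RadicalAbelian
open Cfsg.Lib.CosetEnum.Fi22Norm (Fi22Tab)
open Cfsg.Lib.CosetEnum.Fi22Cent (cen d6 delta orbits d6_mem d6_mem_cen base_le_cen involution_into_base)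
open Cfsg.Lib.CosetEnum.Fi22Two (base gen ev vec P)

section Base

variable {H : Type*} [Group H] [Finite H] {D₀ : Set H} (T : Fi22Tab H D₀)

theorem gen_mem_class {j : ℕ} (hj : j < 22) : gen T j ∈ D₀ := by
  rw [← Fi22Two.delta_P T hj]
  exact (Set.ext_iff.1 T.class_eq _).1 ((T.A.isConj_iff_exists _).2 ⟨_, rfl⟩)

/-- The members of the base among the twenty-two. -/
theorem vec_cover : ((delta :: orbits.getD 1 []).all fun v => (List.range 22).any fun j => vec.getD j 0 == v) = true := by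
  decide +kernel

/-- A class of involutions with twenty-two members in the base meets it as the transpositions do. -/
theorem base_members (Q : H → Prop) (hconj : ∀ c ∈ cen T, ∀ x ∈ cen T, Q x → Q (c * x * c⁻¹))
    (hsq : ∀ g ∈ cen T, ¬ Q (g * g)) (hD : Cfsg.IsThreeTranspositionSet D₀)
    (hcount : Set.ncard {x : H | x ∈ base T ∧ Q x} = 22) {x : H} (hx : x ∈ base T) : Q x ↔ x ∈ D₀ := by
  classical
  obtain ⟨hall, h0, h1, h2, hnd, hlt1, hlt2, -, hnd3⟩ := Fi22Cent.orbits_cover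
  simp only [List.all_eq_true, Bool.or_eq_true, List.any_eq_true, List.mem_range, Nat.beq_eq, Nat.blt_eq,
    List.contains_eq_mem, decide_eq_true_eq] at hall hlt1 hlt2
  have hno2 : ∀ v ∈ orbits.getD 2 [], ¬ Q (ev T 10 v) := by
    intro v hv hq
    have hnd2 : (orbits.getD 2 []).Nodup :=
      (List.Nodup.sublist ((List.sublist_cons_self _ _).trans (List.sublist_append_left _ _)) hnd3)
    have h560 : (orbits.getD 2 []).length ≤ Set.ncard {x : H | x ∈ base T ∧ Q x} := by
      rw [← List.toFinset_card_of_nodup hnd2, ← Set.ncard_coe_finset]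
      refine Set.ncard_le_ncard_of_injOn (fun u => ev T 10 u) (fun u hu => ?_) (fun u hu u' hu' h => ?_) (Set.toFinite _)
      · rw [Finset.mem_coe, List.mem_toFinset] at hu
        exact ⟨Fi22Cent.ev_mem T u, (Fi22Cent.orbit_const T Q hconj (by norm_num) hu).2
          ((Fi22Cent.orbit_const T Q hconj (by norm_num) hv).1 hq)⟩
      · rw [Finset.mem_coe, List.mem_toFinset] at hu hu'
        exact Fi22Two.ev_inj T (hlt2 u hu) (hlt2 u' hu') h
    rw [h2, hcount] at h560
    omega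
  have hsub : {x : H | x ∈ base T ∧ Q x} ⊆ {x : H | x ∈ base T ∧ x ∈ D₀} := by
    rintro _ ⟨hb, hq⟩
    obtain ⟨v, hv, rfl⟩ := hb
    refine ⟨⟨v, hv, rfl⟩, ?_⟩
    have hmem : v ∈ delta :: orbits.getD 1 [] := by
      rcases hall v hv with hz | ⟨k, hk, hkv⟩
      · subst hz
        rw [Fi22Two.ev_zero] at hq
        exact absurd (by simpa using hq) (hsq 1 (one_mem _))
      interval_cases k
      · rw [h0, List.mem_singleton] at hkv; simp [hkv]
      · exact List.mem_cons_of_mem _ hkv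
      · exact absurd hq (hno2 v hkv)
      · exact absurd hq (Fi22Cent.root_not T Q hconj (by norm_num) Fi22Cent.roots_ok.1 hsq hkv)
      · exact absurd hq (Fi22Cent.root_not T Q hconj (by norm_num) Fi22Cent.roots_ok.2.1 hsq hkv)
      · exact absurd hq (Fi22Cent.root_not T Q hconj (by norm_num) Fi22Cent.roots_ok.2.2 hsq hkv)
    obtain ⟨j, hj, hje⟩ := List.any_eq_true.1 (List.all_eq_true.1 vec_cover v hmem)
    rw [List.mem_range] at hj
    rw [← eq_of_beq hje, ← (Fi22Two.ev_vec T hj).2]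
    exact gen_mem_class T hj
  have hle : Set.ncard {x : H | x ∈ base T ∧ x ∈ D₀} ≤ 22 := by
    have hsub' : {x : H | x ∈ base T ∧ x ∈ D₀} ⊆ (gen T) '' (Finset.range 22 : Set ℕ) := by
      rintro y ⟨hyb, hyD⟩
      obtain ⟨i, hi, e⟩ := Fi22Two.mem_class_twoGroup T hD hyD (Fi22Two.base_le T hyb)
      exact ⟨i, Finset.mem_coe.2 (Finset.mem_range.2 hi), by rw [← e, Fi22Two.delta_P T hi]⟩
    refine (Set.ncard_le_ncard hsub' (Set.toFinite _)).trans ((Set.ncard_image_le (Finset.finite_toSet _)).trans ?_)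
    rw [Set.ncard_coe_finset, Finset.card_range]
  have heq := Set.eq_of_subset_of_ncard_le hsub (hle.trans hcount.ge) (Set.toFinite _)
  have := Set.ext_iff.1 heq x
  simpa [hx] using this

end Base

variable {G : Type*} [Group G] [Finite G]

/-- The conjugates of the involution in its centraliser are the transpositions of the model. -/
theorem exists_local {H : Type*} [Group H] [Finite H] {D₀ : Set H} (T₀ : Fi22Tab H D₀)
    (hD : Cfsg.IsThreeTranspositionSet D₀) {d : G} (hd : d * d = 1)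
    (e₀ : Subgroup.centralizer ({d} : Set G) ≃* cen T₀) (hdC : d ∈ Subgroup.centralizer ({d} : Set G))
    (hed : ((e₀ ⟨d, hdC⟩ : cen T₀) : H) = d6 T₀) (hsq : ¬ ∃ g : G, g ^ 2 = d)
    (hnwc : ∃ g : G, g * d * g⁻¹ ∈ Subgroup.centralizer ({d} : Set G) ∧ g * d * g⁻¹ ≠ d) :
    ∃ e : Subgroup.centralizer ({d} : Set G) ≃* cen T₀, ((e ⟨d, hdC⟩ : cen T₀) : H) = d6 T₀ ∧
      ∀ x : Subgroup.centralizer ({d} : Set G), IsConj d (x : G) ↔ ((e x : cen T₀) : H) ∈ D₀ := by
  haveI : Fact (Nat.Prime 2) := ⟨Nat.prime_two⟩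
  obtain ⟨S⟩ : Nonempty (Sylow 2 (Subgroup.centralizer ({d} : Set G))) := inferInstance
  obtain ⟨e, hed', hJ⟩ := Fi22Cent.exists_equiv_base T₀ e₀ hdC hed S
  obtain ⟨-, -, h22, -⟩ := Fi22Cent.main T₀ hD hd e₀ hdC hed hsq hnwc S _ rfl
  refine ⟨e, hed', ?_⟩
  let g : cen T₀ →* G := (Subgroup.centralizer ({d} : Set G)).subtype.comp e.symm.toMonoidHom
  have hginj : Function.Injective g :=
    (Subgroup.centralizer ({d} : Set G)).subtype_injective.comp e.symm.injective
  let Q : H → Prop := fun y => ∃ h : y ∈ cen T₀, IsConj d (g ⟨y, h⟩)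
  have hconj : ∀ c ∈ cen T₀, ∀ x ∈ cen T₀, Q x → Q (c * x * c⁻¹) := by
    rintro c hc x hx ⟨h, hdx⟩
    refine ⟨mul_mem (mul_mem hc h) (inv_mem hc), hdx.trans ?_⟩
    exact isConj_iff.2 ⟨g ⟨c, hc⟩, by rw [← map_inv, ← map_mul, ← map_mul]; rfl⟩
  have hsqQ : ∀ y ∈ cen T₀, ¬ Q (y * y) := by
    rintro y hy ⟨h, hdy⟩
    obtain ⟨k, hk⟩ := isConj_iff.1 hdy
    refine hsq ⟨k⁻¹ * g ⟨y, hy⟩ * k, ?_⟩
    have e1 : g ⟨y, hy⟩ * g ⟨y, hy⟩ = k * d * k⁻¹ := by rw [hk, ← map_mul]; rfl
    calc (k⁻¹ * g ⟨y, hy⟩ * k) ^ 2 = k⁻¹ * (g ⟨y, hy⟩ * g ⟨y, hy⟩) * k := by rw [pow_two]; group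
      _ = d := by rw [e1]; group
  have hcount : Set.ncard {x : H | x ∈ base T₀ ∧ Q x} = 22 := by
    rw [← h22]
    have e1 : {x : H | x ∈ base T₀ ∧ Q x} = Subtype.val '' {x : cen T₀ | (x : H) ∈ base T₀ ∧ IsConj d (g x)} := by
      ext y
      constructor
      · rintro ⟨hy, h, hc⟩; exact ⟨⟨y, h⟩, ⟨hy, hc⟩, rfl⟩
      · rintro ⟨z, ⟨hz, hc⟩, rfl⟩; exact ⟨hz, z.2, hc⟩
    rw [e1, Set.ncard_image_of_injective _ Subtype.val_injective, ← Set.ncard_image_of_injective _ hginj]
    congr 1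
    ext y
    rw [hJ, Subgroup.map_map]
    constructor
    · rintro ⟨z, ⟨hz, hc⟩, rfl⟩
      exact ⟨⟨z, hz, rfl⟩, hc⟩
    · rintro ⟨⟨z, hz, rfl⟩, hc⟩
      exact ⟨z, ⟨hz, hc⟩, rfl⟩
  intro x
  obtain ⟨y, hy⟩ : ∃ y, y = e x := ⟨_, rfl⟩
  have hxy : g y = (x : G) := by
    show ((e.symm y : Subgroup.centralizer ({d} : Set G)) : G) = x
    rw [hy, MulEquiv.symm_apply_apply]
  rw [← hxy, ← hy]
  have hQ : Q (y : H) ↔ IsConj d (g y) := ⟨fun ⟨_, hc⟩ => hc, fun hc => ⟨y.2, hc⟩⟩
  rw [← hQ]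
  by_cases h2 : (y : H) * y = 1
  · obtain ⟨c, hc, hcb⟩ := involution_into_base T₀ hD y.2 h2
    have hb := base_members T₀ Q hconj hsqQ hD hcount hcb
    have hD' : c * (y : H) * c⁻¹ ∈ D₀ ↔ (y : H) ∈ D₀ := by
      rw [← Set.ext_iff.1 T₀.class_eq, ← Set.ext_iff.1 T₀.class_eq]
      exact ⟨fun h => h.trans (isConj_iff.2 ⟨c, rfl⟩).symm, fun h => h.trans (isConj_iff.2 ⟨c, rfl⟩)⟩
    rw [← hD', ← hb]
    refine ⟨hconj c hc _ y.2, fun h => ?_⟩
    have := hconj c⁻¹ (inv_mem hc) _ (base_le_cen T₀ hcb) h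
    simpa [mul_assoc] using this
  · refine ⟨fun h => absurd ?_ h2, fun h => absurd ?_ h2⟩
    · obtain ⟨k, hk⟩ := isConj_iff.1 (hQ.1 h)
      refine congrArg Subtype.val (hginj (a₁ := y * y) (a₂ := 1) ?_)
      rw [map_mul, map_one, ← hk]
      calc k * d * k⁻¹ * (k * d * k⁻¹) = k * (d * d) * k⁻¹ := by group
        _ = 1 := by rw [hd, mul_one, mul_inv_cancel]
    · rw [← pow_two, ← hD.1 _ h, pow_orderOf_eq_one]

/-- The class of an involution with the double cover of PSU(6, 2) as centraliser satisfies the hypotheses. -/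
theorem exists_datum (d : G) (hd : orderOf d = 2)
    (hq : Cfsg.IsQuasisimple ↥(Subgroup.centralizer ({d} : Set G)))
    [hzn : ((Subgroup.zpowers d).subgroupOf (Subgroup.centralizer ({d} : Set G))).Normal]
    (K : Type) [Field K] [Fintype K] (hK : Fintype.card K = 4)
    (e : ↥(Subgroup.centralizer ({d} : Set G)) ⧸ (Subgroup.zpowers d).subgroupOf (Subgroup.centralizer ({d} : Set G))
      ≃* Cfsg.PSU 6 K 2)
    (hnwc : ∃ g : G, g * d * g⁻¹ ∈ Subgroup.centralizer ({d} : Set G) ∧ g * d * g⁻¹ ≠ d) :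
    ∃ (D₀ : Set Cfsg.Spor.Fi22) (a₀ : Cfsg.Spor.Fi22) (F : Type) (_ : Field F) (_ : Fintype F)
      (_ : Finite Cfsg.Spor.Fi22) (hF : Fintype.card F = 2 ^ 2), Datum (conjugatesOf d) D₀ a₀ hF := by
  have hnsq := (Cfsg.Agent.S5452.result d hd hq K hK e hnwc).2
  have hd2 : d * d = 1 := by rw [← pow_two, ← hd, pow_orderOf_eq_one]
  have hd1 : d ≠ 1 := fun h => by rw [h, orderOf_one] at hd; omega
  have hdC : d ∈ Subgroup.centralizer ({d} : Set G) := Subgroup.mem_centralizer_singleton_iff.2 rfl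
  have hker : (e.toMonoidHom.comp (QuotientGroup.mk' ((Subgroup.zpowers d).subgroupOf
      (Subgroup.centralizer ({d} : Set G))))).ker =
      Subgroup.zpowers (⟨d, hdC⟩ : Subgroup.centralizer ({d} : Set G)) := by
    ext k
    rw [MonoidHom.mem_ker, MonoidHom.comp_apply, MulEquiv.coe_toMonoidHom,
      MulEquiv.map_eq_one_iff, QuotientGroup.mk'_apply, QuotientGroup.eq_one_iff, Subgroup.mem_subgroupOf,
      Subgroup.mem_zpowers_iff, Subgroup.mem_zpowers_iff]
    exact ⟨fun ⟨i, hi⟩ => ⟨i, Subtype.ext (by rw [← hi]; simp)⟩, fun ⟨i, hi⟩ => ⟨i, by rw [← hi]; simp⟩⟩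
  obtain ⟨T₀, e₀, he₀⟩ := U62Double.exists_equiv_centralizer hK
    (d := (⟨d, hdC⟩ : Subgroup.centralizer ({d} : Set G)))
    (e.toMonoidHom.comp (QuotientGroup.mk' ((Subgroup.zpowers d).subgroupOf
      (Subgroup.centralizer ({d} : Set G))))) (e.surjective.comp (QuotientGroup.mk'_surjective _)) hker
    (Subgroup.mem_center_iff.2 fun u => Subtype.ext (Subgroup.mem_centralizer_singleton_iff.1 u.2))
    (by rw [← hd]; exact (Subgroup.orderOf_coe _).symm)
    hq.1.commutator_eq_top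
  have hfin : Finite Cfsg.Spor.Fi22 := Nat.finite_of_card_ne_zero (by rw [T₀.card]; positivity)
  obtain ⟨T, hT⟩ := Fi22Cent.exists_seventh T₀
  obtain ⟨D₀, hD₀, hcls, hprim, htype⟩ := Fi22Type.fi22_type
  subst hD₀
  obtain ⟨e₁, he₁, hiff⟩ := exists_local T hcls.1 hd2
    (e₀.trans (MulEquiv.subgroupCongr (by rw [cen, hT]))) hdC (he₀.trans hT.symm) hnsq hnwc
  have hT₀ := trans_of_class hcls
  obtain ⟨F, i1, i2, hF, hS⟩ := m22_of_type ⟨hcls.1, hT₀.conj, hcls.2.2⟩ hprim htype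
  obtain ⟨F', j1, j2, hF', c, ⟨C⟩⟩ := m22_coord hT₀ hprim htype
  have ha₀ := Fi22Cent.d6_mem_class T
  obtain ⟨h, hh⟩ := hT₀.trans c C.mem (d6 T) ha₀
  have himg : ∀ x, MulAut.conj h '' perp (conjugatesOf (Fi22Pres.numbering.gens Spor.Fi22.extra 0)) x =
      perp (conjugatesOf (Fi22Pres.numbering.gens Spor.Fi22.extra 0)) (h * x * h⁻¹) := by
    intro x
    ext y
    constructor
    · rintro ⟨z, hz, rfl⟩
      exact conj_perp hS.fischer h x hz
    · intro hy
      refine ⟨h⁻¹ * y * h, ?_, by simp [mul_assoc]⟩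
      have := conj_perp hS.fischer h⁻¹ _ hy
      simpa [mul_assoc] using this
  have hmodel : Model (conjugatesOf (Fi22Pres.numbering.gens Spor.Fi22.extra 0)) (d6 T) hF := by
    refine ⟨hS, ha₀, ?_, fun s hs => ?_⟩
    · rw [← hh, ← himg, Set.ncard_image_of_injective _ (MulAut.conj h).injective, ← Nat.card_coe_set_eq]
      exact C.card_perp
    · rw [← hh, ← himg] at hs
      obtain ⟨t, ht, rfl⟩ := hs
      rw [← hh, MulAut.conj_apply, ← himg, ← himg, ← Set.image_inter (MulAut.conj h).injective,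
        Set.ncard_image_of_injective _ (MulAut.conj h).injective]
      have := C.card_common ht
      rwa [Nat.card_coe_set_eq] at this
  classical
  let φ : G → Cfsg.Spor.Fi22 := fun x =>
    if hx : Commute x d then ((e₁ ⟨x, Subgroup.mem_centralizer_singleton_iff.2 hx⟩ : cen T) : Cfsg.Spor.Fi22) else 1
  have hφ : ∀ x (hx : Commute x d),
      φ x = ((e₁ ⟨x, Subgroup.mem_centralizer_singleton_iff.2 hx⟩ : cen T) : Cfsg.Spor.Fi22) := fun x hx => dif_pos hx
  refine ⟨_, d6 T, F, i1, i2, hfin, hF, ⟨hmodel, ⟨d, mem_conjugatesOf_self⟩, fun a ha => ?_, fun a ha => ?_,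
    fun g a ha => ha.trans (isConj_iff.2 ⟨g, rfl⟩), fun a ha b hb => isConj_iff.1 ((IsConj.symm ha).trans hb),
    fun a ha => ?_⟩⟩
  · obtain ⟨g, rfl⟩ := isConj_iff.1 ha
    calc g * d * g⁻¹ * (g * d * g⁻¹) = g * (d * d) * g⁻¹ := by group
      _ = 1 := by rw [hd2, mul_one, mul_inv_cancel]
  · obtain ⟨g, rfl⟩ := isConj_iff.1 ha
    exact fun h => hd1 (conj_eq_one_iff.1 h)
  obtain ⟨g, rfl⟩ := isConj_iff.1 ha
  have hmap : (Subgroup.centralizer ({d} : Set G)).map (MulAut.conj g).toMonoidHom =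
      Subgroup.centralizer ({g * d * g⁻¹} : Set G) := by
    ext x
    rw [Subgroup.mem_map_equiv, Subgroup.mem_centralizer_singleton_iff, Subgroup.mem_centralizer_singleton_iff]
    show (g⁻¹ * x * g) * d = d * (g⁻¹ * x * g) ↔ _
    constructor
    · intro h
      calc x * (g * d * g⁻¹) = g * ((g⁻¹ * x * g) * d) * g⁻¹ := by group
        _ = g * (d * (g⁻¹ * x * g)) * g⁻¹ := by rw [h]
        _ = g * d * g⁻¹ * x := by group
    · intro h
      calc g⁻¹ * x * g * d = g⁻¹ * (x * (g * d * g⁻¹)) * g := by group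
        _ = g⁻¹ * (g * d * g⁻¹ * x) * g := by rw [h]
        _ = d * (g⁻¹ * x * g) := by group
  have hpull : ∀ x, Commute x (g * d * g⁻¹) → Commute (g⁻¹ * x * g) d := fun x hx => by
    have := (Commute.conj_iff g⁻¹).2 hx
    simpa [mul_assoc] using this
  have hC : ∀ x ∈ Subgroup.centralizer ({g * d * g⁻¹} : Set G), Commute x (g * d * g⁻¹) :=
    fun x hx => Subgroup.mem_centralizer_singleton_iff.1 hx
  have hC' : ∀ x, Commute x (g * d * g⁻¹) → x ∈ Subgroup.centralizer ({g * d * g⁻¹} : Set G) :=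
    fun x hx => Subgroup.mem_centralizer_singleton_iff.2 hx
  let L : Loc (conjugatesOf d) _ (d6 T) (g * d * g⁻¹) (Subgroup.centralizer ({g * d * g⁻¹} : Set G)) :=
    { φ := fun x => φ (g⁻¹ * x * g)
      le := hC
      self_mem := hC' _ (Commute.refl _)
      perp_le := fun x _ hx => hC' x hx
      map_mul := fun x y hx hy => by
        show φ (g⁻¹ * (x * y) * g) = φ (g⁻¹ * x * g) * φ (g⁻¹ * y * g)
        replace hx := hpull x (hC x hx)
        replace hy := hpull y (hC y hy)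
        rw [show g⁻¹ * (x * y) * g = (g⁻¹ * x * g) * (g⁻¹ * y * g) by group,
          hφ _ (hx.mul_left hy), hφ _ hx, hφ _ hy, ← Subgroup.coe_mul, ← map_mul]
        rfl
      inj := fun x y hx hy hxy => by
        simp only [hφ _ (hpull x (hC x hx)), hφ _ (hpull y (hC y hy))] at hxy
        have := congrArg Subtype.val (e₁.injective (Subtype.ext hxy))
        exact mul_left_cancel (mul_right_cancel this)
      mem := fun x hx => by
        simp only [hφ _ (hpull x (hC x hx))]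
        exact Subgroup.mem_centralizer_singleton_iff.1 (e₁ _).2
      surj := fun y hy => by
        obtain ⟨z, hz⟩ := e₁.surjective ⟨y, Subgroup.mem_centralizer_singleton_iff.2 hy⟩
        have hzd : Commute (z : G) d := Subgroup.mem_centralizer_singleton_iff.1 z.2
        refine ⟨g * z * g⁻¹, hC' _ ((Commute.conj_iff g).2 hzd), ?_⟩
        show φ (g⁻¹ * (g * z * g⁻¹) * g) = y
        rw [show g⁻¹ * (g * (z : G) * g⁻¹) * g = z by group, hφ _ hzd]
        exact congrArg Subtype.val hz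
      base := by
        show φ (g⁻¹ * (g * d * g⁻¹) * g) = d6 T
        rw [show g⁻¹ * (g * d * g⁻¹) * g = d by group, hφ d (Commute.refl d)]
        exact he₁
      class_iff := fun x hx => by
        have h1 := hiff ⟨g⁻¹ * x * g, Subgroup.mem_centralizer_singleton_iff.2 (hpull x (hC x hx))⟩
        show IsConj d x ↔ φ (g⁻¹ * x * g) ∈ _
        rw [hφ _ (hpull x (hC x hx))]
        refine Iff.trans ⟨fun h => h.trans (isConj_iff.2 ⟨g⁻¹, by group⟩),
          fun h => h.trans (isConj_iff.2 ⟨g, by group⟩)⟩ h1 }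
  exact ⟨_, Cfsg.Lib.Core.quasisimple_congr hq
    (((MulAut.conj g).subgroupMap _).trans (MulEquiv.subgroupCongr hmap)),
    fun z hz hc => L.eq_or_eq hmodel (hC' z hz) hc, ⟨L⟩⟩

/-- In that case the members generate. -/
theorem full_of_datum {H : Type} [Group H] [Finite H] {F : Type} [Field F] [Fintype F] {D : Set G} {D₀ : Set H}
    {a₀ : H} {hF : Fintype.card F = 2 ^ 2} (S : Datum D D₀ a₀ hF)
    (hqs : ∀ a ∈ D, Cfsg.IsQuasisimple ↥(Subgroup.centralizer ({a} : Set G))) :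
    ∀ a ∈ D, ∀ g : G, Commute g a → g ∈ Subgroup.closure D := by
  intro a ha g hg
  set C := Subgroup.centralizer ({a} : Set G)
  have hle : Subgroup.closure (perp D a) ≤ C :=
    (Subgroup.closure_le _).2 fun y hy => Subgroup.mem_centralizer_singleton_iff.2 hy.2.2.eq.symm
  have hn : ((Subgroup.closure (perp D a)).subgroupOf C).Normal := by
    refine (Subgroup.normal_subgroupOf_iff hle).2 fun h c hh hc => ?_
    have hca : c * a * c⁻¹ = a := by
      rw [Subgroup.mem_centralizer_singleton_iff.1 hc, mul_inv_cancel_right]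
    induction hh using Subgroup.closure_induction with
    | mem y hy => exact Subgroup.subset_closure (hca ▸ S.perp_conj (g := c) hy)
    | one => simp
    | mul u v _ _ hu hv => simpa [mul_assoc] using mul_mem hu hv
    | inv u _ hu => simpa [mul_assoc] using inv_mem hu
  refine Subgroup.closure_mono (fun z hz => hz.1) (Subgroup.subgroupOf_eq_top.1
    ((normal_cases (hqs a ha) hn).resolve_left fun hz => ?_) (Subgroup.mem_centralizer_singleton_iff.2 hg))
  obtain ⟨U⟩ := S.exists_udata ha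
  obtain ⟨y, hy⟩ := S.perp_nonempty ha
  obtain ⟨e, he, hne⟩ := U.exists_noncommute (fourField hF) (hB_isSymm hF 6) (hB_nondegenerate hF 6)
    (by rw [Module.finrank_fin_fun]; norm_num) hy
  have h1 : (⟨y, hle (Subgroup.subset_closure hy)⟩ : C) ∈ Subgroup.center ↥C :=
    hz (Subgroup.mem_subgroupOf.2 (Subgroup.subset_closure hy))
  exact hne (congrArg Subtype.val (Subgroup.mem_center_iff.1 h1 ⟨e, hle (Subgroup.subset_closure he)⟩)).symm

end Cfsg.Lib.Fischer.FromCent
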